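import Groth.Prelude.Def_EtShriek2
import Mathlib.CategoryTheory.Adjunction.Triple
import Mathlib.CategoryTheory.Preadditive.Injective.Preserves

/-!
# Etale morphisms and small etale sites: restriction, its two adjoints
-/

universe u

open CategoryTheory CategoryTheory.Limits AlgebraicGeometry Opposite

namespace Groth.Agent.Lib.EtJ.Basic

variable {U X : Scheme.{u}} (j : U ⟶ X) [hj : Etale j]

set_option backward.isDefEq.respectTransparency.types false in
theorem compatiblePreserving_compEtale :
    CompatiblePreserving X.smallEtaleTopology (EtShriek.compEtale j) := by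
  constructor
  intro ℱ Z T x hx Y₁ Y₂ W f₁ f₂ g₁ g₂ hg₁ hg₂ he
  have hw₁ : f₁.left ≫ Y₁.hom ≫ j = W.hom := MorphismProperty.Over.w f₁
  have hw : EtCoh.etaleMP ((f₁.left ≫ Y₁.hom) ≫ j) := by
    rw [Category.assoc, hw₁]; exact W.prop
  let V : U.Etale := MorphismProperty.Over.mk ⊤ (f₁.left ≫ Y₁.hom)
    (EtCoh.etaleMP.of_postcomp (W' := EtCoh.etaleMP) _ j hj hw)
  let i : (EtShriek.compEtale j).obj V ≅ W :=
    MorphismProperty.Over.isoMk (Iso.refl _)
      ((Category.id_comp W.hom).trans (hw₁.symm.trans (Category.assoc _ _ _).symm))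
  have h : f₁.left ≫ g₁.left = f₂.left ≫ g₂.left := congrArg (fun k => k.left) he
  have h₂ : f₂.left ≫ Y₂.hom = f₁.left ≫ Y₁.hom := by
    have e₁ : g₁.left ≫ Z.hom = Y₁.hom := MorphismProperty.Over.w g₁
    have e₂ : g₂.left ≫ Z.hom = Y₂.hom := MorphismProperty.Over.w g₂
    rw [← e₁, ← e₂]
    exact ((Category.assoc _ _ _).symm.trans (congrArg (· ≫ Z.hom) h.symm)).trans
      (Category.assoc _ _ _)
  let a₁ : V ⟶ Y₁ := MorphismProperty.Over.homMk f₁.left rfl
  let a₂ : V ⟶ Y₂ := MorphismProperty.Over.homMk f₂.left h₂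
  have ha₁ : (EtShriek.compEtale j).map a₁ = i.hom ≫ f₁ :=
    MorphismProperty.Over.Hom.ext (Category.id_comp _).symm
  have ha₂ : (EtShriek.compEtale j).map a₂ = i.hom ≫ f₂ :=
    MorphismProperty.Over.Hom.ext (Category.id_comp _).symm
  have hcomp : a₁ ≫ g₁ = a₂ ≫ g₂ := MorphismProperty.Over.Hom.ext h
  have key := hx a₁ a₂ hg₁ hg₂ hcomp
  simp only [Functor.op_obj, Functor.comp_obj, Functor.comp_map, Functor.op_map, Quiver.Hom.unop_op,
    ha₁, ha₂, op_comp, Functor.map_comp, types_comp_apply] at key
  exact injective_of_mono (ℱ.obj.map i.hom.op) key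

set_option backward.isDefEq.respectTransparency.types false in
instance jCont : EtShriek.JCont j :=
  Functor.isContinuous_of_coverPreserving (compatiblePreserving_compEtale j)
    (EtShriek.coverPreserving_compEtale j)

/-- `compEtale j` is left adjoint to base change along `j`. -/
noncomputable def compEtaleAdj : EtShriek.compEtale j ⊣ EtCoh.bc j :=
  MorphismProperty.Over.mapPullbackAdj EtCoh.etaleMP ⊤ j hj trivial

/-- Restriction along `j` is left adjoint to direct image. -/
noncomputable def restrPushAdj : EtShriek.restrAlong j ⊣ EtCoh.push j :=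
  (compEtaleAdj j).sheafPushforwardContinuous U.smallEtaleTopology X.smallEtaleTopology

/-- `j^{-1}` is restriction along `j`. -/
noncomputable def pullIsoRestr : EtCoh.pull j ≅ EtShriek.restrAlong j :=
  Adjunction.leftAdjointUniq (EtCoh.pullPushAdj j) (restrPushAdj j)

instance restrAlong_preservesFiniteColimits : PreservesFiniteColimits (EtShriek.restrAlong j) :=
  have : PreservesColimitsOfSize.{0, 0} (EtShriek.restrAlong j) :=
    (restrPushAdj j).leftAdjoint_preservesColimits
  PreservesColimitsOfSize.preservesFiniteColimits _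

instance restrAlong_preservesFiniteLimits : PreservesFiniteLimits (EtShriek.restrAlong j) :=
  have : PreservesLimitsOfSize.{0, 0} (EtShriek.restrAlong j) :=
    (EtShriek.extZeroAdj j).rightAdjoint_preservesLimits
  PreservesLimitsOfSize.preservesFiniteLimits _

instance restrAlong_additive : (EtShriek.restrAlong j).Additive where

/-- `j^{-1}` is exact for etale `j`. -/
instance pull_preservesFiniteLimits : PreservesFiniteLimits (EtCoh.pull j) :=
  preservesFiniteLimits_of_natIso (pullIsoRestr j).symm

/-- Restriction along the structure map of an etale `X`-scheme. -/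
instance etale_hom (W : X.Etale) : Etale W.hom := W.prop

end Groth.Agent.Lib.EtJ.Basic
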