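import Mathlib.CategoryTheory.Abelian.RightDerived
import Mathlib.CategoryTheory.Abelian.Exact
import Mathlib.Algebra.Homology.ShortComplex.PreservesHomology

/-!
# Objects with vanishing higher derived functors: the sequences of cycles of a resolution
-/

universe v v' u u'

namespace Groth.Agent.Lib.EtJ.RightAcyclic

open CategoryTheory CategoryTheory.Limits

variable {C : Type u} [Category.{v} C] [Abelian C] {Z : C} (P : InjectiveResolution Z)

/-- The cycles of a resolution. -/
noncomputable abbrev cyc (k : ℕ) : C := kernel (P.cocomplex.d k (k + 1))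

/-- `Z^k → I^k → Z^{k+1}`. -/
noncomputable abbrev seq (k : ℕ) : ShortComplex C :=
  ShortComplex.mk (X₁ := cyc P k) (X₂ := P.cocomplex.X k) (X₃ := cyc P (k + 1))
    (kernel.ι (P.cocomplex.d k (k + 1)))
    (kernel.lift _ (P.cocomplex.d k (k + 1)) (P.cocomplex.d_comp_d _ _ _))
    (by
      rw [← cancel_mono (kernel.ι _)]
      simp)

theorem seq_shortExact (k : ℕ) : (seq P k).ShortExact where
  exact := by
    refine ShortComplex.exact_of_f_is_kernel _ ?_
    refine KernelFork.IsLimit.ofι' _ _ fun a ha => ⟨kernel.lift (P.cocomplex.d k (k + 1)) a ?_,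
      kernel.lift_ι _ _ _⟩
    have := congrArg (· ≫ kernel.ι (P.cocomplex.d (k + 1) (k + 2))) ha
    simpa [seq] using this
  mono_f := inferInstanceAs (Mono (kernel.ι _))
  epi_g := (P.exact_succ k).epi_kernelLift

/-- `Z ≅ Z^0`. -/
noncomputable def isoCyc₀ : Z ≅ cyc P 0 :=
  P.isLimitKernelFork.conePointUniqueUpToIso (limit.isLimit _)

variable {D : Type u'} [Category.{v'} D] [Abelian D] [HasInjectiveResolutions C]
  (G : C ⥤ D) [G.Additive] [PreservesFiniteLimits G]

theorem seq_map_shortExact (hG : ∀ q : ℕ, 0 < q → IsZero ((G.rightDerived q).obj Z)) (k : ℕ) :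
    ((seq P k).map G).ShortExact := by
  have hex : ((ShortComplex.mk _ _ (P.cocomplex.d_comp_d k (k + 1) (k + 2))).map G).Exact := by
    have h := (hG (k + 1) k.succ_pos).of_iso (P.isoRightDerivedObj G (k + 1)).symm
    exact (((G.mapHomologicalComplex _).obj P.cocomplex).exactAt_iff' k (k + 1) (k + 2)
      (by simp) (by simp)).1 ((HomologicalComplex.exactAt_iff_isZero_homology _ _).2 h)
  have hS := seq_shortExact P k
  refine
    { exact := hS.exact.map_of_mono_of_preservesKernel _ hS.mono_f inferInstance
      mono_f := have := hS.mono_f; G.map_mono _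
      epi_g := ?_ }
  have := hex.epi_kernelLift
  have e : G.map (seq P k).g ≫ kernelComparison (P.cocomplex.d (k + 1) (k + 2)) G =
      kernel.lift (G.map (P.cocomplex.d (k + 1) (k + 2))) (G.map (P.cocomplex.d k (k + 1)))
        (by rw [← G.map_comp, P.cocomplex.d_comp_d, G.map_zero]) := by
    rw [← cancel_mono (kernel.ι _)]
    simp
  have : Epi (G.map (seq P k).g ≫ kernelComparison (P.cocomplex.d (k + 1) (k + 2)) G) := by
    rw [e]; assumption
  exact (epi_comp_iff_of_isIso _ (kernelComparison (P.cocomplex.d (k + 1) (k + 2)) G)).1 this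

end Groth.Agent.Lib.EtJ.RightAcyclic
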