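import Groth.Agent.Lib.EtJ.Basic
import Mathlib.CategoryTheory.Functor.KanExtension.Adjunction
import Mathlib.CategoryTheory.Abelian.GrothendieckAxioms.Basic
import Mathlib.CategoryTheory.Limits.Final
import Mathlib.Algebra.Category.Grp.AB

/-!
# Extension by zero along an etale morphism is exact
-/

universe w₁ u v₁ v₂ v₃ u₁ u₂ u₃

open CategoryTheory CategoryTheory.Limits AlgebraicGeometry Opposite

namespace Groth.Agent.Lib.EtJ.ExtZero

section General

variable {C : Type u₁} [Category.{v₁} C] {D : Type u₂} [Category.{v₂} D]
  {H : Type u₃} [Category.{v₃} H] (F : C ⥤ D)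
  [∀ X : D, HasColimitsOfShape (CostructuredArrow F X) H]

set_option backward.defeqAttrib.useBackward true in
set_option backward.isDefEq.respectTransparency false in
/-- The evaluation of `F.lan` at `X` is the colimit over the costructured arrows over `X`. -/
noncomputable def lanEvalIso (X : D) :
    F.lan ⋙ (evaluation D H).obj X ≅
      (Functor.whiskeringLeft _ _ H).obj (CostructuredArrow.proj F X) ⋙ colim :=
  NatIso.ofComponents (fun G =>
    IsColimit.coconePointUniqueUpToIso
    (Functor.isPointwiseLeftKanExtensionLeftKanExtensionUnit F G X)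
    (colimit.isColimit _)) (fun {G₁ G₂} φ => by
      apply (Functor.isPointwiseLeftKanExtensionLeftKanExtensionUnit F G₁ X).hom_ext
      intro T
      have h₁ := fun (G : C ⥤ H) => IsColimit.comp_coconePointUniqueUpToIso_hom
        (Functor.isPointwiseLeftKanExtensionLeftKanExtensionUnit F G X) (colimit.isColimit _) T
      have h₂ := congr_app (F.lanUnit.naturality φ) T.left
      dsimp at h₁ h₂ ⊢
      simp only [Category.assoc] at h₁ ⊢
      simp only [Functor.lan, Functor.lanUnit] at h₂ ⊢
      rw [reassoc_of% h₁, NatTrans.naturality_assoc, ← reassoc_of% h₂, h₁,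
        ι_colimMap, Functor.whiskerLeft_app]
      rfl)

theorem lan_preservesFiniteLimits_of_exact [HasFiniteLimits H]
    [∀ X : D, HasExactColimitsOfShape (CostructuredArrow F X) H] :
    PreservesFiniteLimits (F.lan : (C ⥤ H) ⥤ D ⥤ H) := by
  refine ⟨fun J _ _ => preservesLimitsOfShape_of_evaluation _ J fun X => ?_⟩
  have : PreservesLimitsOfShape J
      ((Functor.whiskeringLeft _ _ H).obj (CostructuredArrow.proj F X)) :=
    whiskeringLeft_preservesLimitsOfShape J _
  exact preservesLimitsOfShape_of_natIso (lanEvalIso F X).symm

end General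

variable {U X : Scheme.{u}} (j : U ⟶ X) [hj : Etale j]

/-- `U` as an object of the small etale site of `X`. -/
noncomputable def base : X.Etale := Scheme.Etale.mk j

/-- A map `W ⟶ (U → X)` in the small etale site of `X`, as an etale `U`-scheme. -/
noncomputable def liftObj {W : X.Etale} (φ : W ⟶ base j) : U.Etale :=
  MorphismProperty.Over.mk ⊤ (φ.left : W.left ⟶ U)
    (EtCoh.etaleMP.of_postcomp (W' := EtCoh.etaleMP) _ j hj (by
      have : φ.left ≫ j = W.hom := MorphismProperty.Over.w φ
      exact this ▸ W.prop))

/-- The canonical map `W ⟶ (W → U → X)`. -/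
noncomputable def liftHom {W : X.Etale} (φ : W ⟶ base j) :
    W ⟶ (EtShriek.compEtale j).obj (liftObj j φ) :=
  MorphismProperty.Over.homMk (𝟙 W.left) ((Category.id_comp _).trans (MorphismProperty.Over.w φ))

/-- The final discrete subcategory. -/
noncomputable def discreteFunctor (W : X.Etale) :
    Discrete (W ⟶ base j) ⥤ CostructuredArrow (EtShriek.compEtale j).op (op W) :=
  Discrete.functor fun φ => CostructuredArrow.mk (Y := op (liftObj j φ)) (liftHom j φ).op

instance discreteFunctor_final (W : X.Etale) : (discreteFunctor j W).Final where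
  out d := by
    let g : W ⟶ (EtShriek.compEtale j).obj d.left.unop := d.hom.unop
    have hg : g.left ≫ d.left.unop.hom ≫ j = W.hom := MorphismProperty.Over.w g
    let φ : W ⟶ base j := MorphismProperty.Over.homMk (g.left ≫ d.left.unop.hom)
      ((Category.assoc _ _ _).trans hg)
    let k : liftObj j φ ⟶ d.left.unop := MorphismProperty.Over.homMk g.left rfl
    let a : d ⟶ (discreteFunctor j W).obj ⟨φ⟩ := CostructuredArrow.homMk k.op
      (Quiver.Hom.unop_inj (MorphismProperty.Over.Hom.ext (Category.id_comp _)))
    have key : ∀ y : StructuredArrow d (discreteFunctor j W),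
        y = StructuredArrow.mk (Y := (⟨φ⟩ : Discrete (W ⟶ base j))) a := by
      rintro ⟨⟨⟨⟩⟩, ⟨ψ⟩, b⟩
      have hb : b.left.unop.left = g.left := by
        have := congrArg (fun m => m.unop.left) (CostructuredArrow.w b)
        exact (Category.id_comp _).symm.trans this
      have hw : b.left.unop.left ≫ d.left.unop.hom = ψ.left := MorphismProperty.Over.w b.left.unop
      obtain rfl : ψ = φ := MorphismProperty.Over.Hom.ext (by
        rw [← hw, hb]; rfl)
      obtain rfl : b = a := CostructuredArrow.hom_ext _ _
        (Quiver.Hom.unop_inj (MorphismProperty.Over.Hom.ext hb))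
      rfl
    have : Nonempty (StructuredArrow d (discreteFunctor j W)) := ⟨StructuredArrow.mk a⟩
    exact zigzag_isConnected fun y z => by rw [key y, key z]

instance hasExactColimits_costructuredArrow (W : X.Etaleᵒᵖ) :
    HasExactColimitsOfShape (CostructuredArrow (EtShriek.compEtale j).op W) AddCommGrpCat.{u + 1} := by
  obtain ⟨W⟩ := W
  have : HasExactColimitsOfShape (Discrete (W ⟶ base j)) AddCommGrpCat.{u + 1} :=
    HasExactColimitsOfShape.of_domain_equivalence AddCommGrpCat.{u + 1}
      (Discrete.equivalence (Equiv.ulift.{u + 1} (α := W ⟶ base j)))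
  exact hasExactColimitsOfShape_of_final AddCommGrpCat.{u + 1} (discreteFunctor j W)

instance lan_compEtale_preservesFiniteLimits :
    PreservesFiniteLimits ((EtShriek.compEtale j).op.lan :
      (_ ⥤ AddCommGrpCat.{u + 1}) ⥤ _) :=
  lan_preservesFiniteLimits_of_exact _

/-- `j_!` is left exact. -/
instance extZero_preservesFiniteLimits : PreservesFiniteLimits (EtShriek.extZero j) := by
  have : PreservesFiniteLimits
      (Functor.sheafPullbackConstruction.sheafPullback (EtShriek.compEtale j)
        AddCommGrpCat.{u + 1} U.smallEtaleTopology X.smallEtaleTopology) := by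
    have : PreservesFiniteLimits ((EtShriek.compEtale j).op.lan ⋙
        presheafToSheaf X.smallEtaleTopology AddCommGrpCat.{u + 1}) :=
      comp_preservesFiniteLimits _ _
    exact comp_preservesFiniteLimits _ _
  exact preservesFiniteLimits_of_natIso
    (Functor.sheafPullbackConstruction.sheafPullbackIso (EtShriek.compEtale j)
      AddCommGrpCat.{u + 1} U.smallEtaleTopology X.smallEtaleTopology).symm

instance restrAlong_preservesInjectiveObjects :
    (EtShriek.restrAlong j).PreservesInjectiveObjects :=
  have : PreservesLimitsOfShape WalkingCospan (EtShriek.extZero j) := inferInstance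
  Functor.preservesInjectiveObjects_of_adjunction_of_preservesMonomorphisms (EtShriek.extZeroAdj j)

instance pull_preservesInjectiveObjects : (EtCoh.pull j).PreservesInjectiveObjects where
  injective_obj {I} _ :=
    Injective.of_iso ((Basic.pullIsoRestr j).app I).symm
      (show Injective ((EtShriek.restrAlong j).obj I) from inferInstance)

end Groth.Agent.Lib.EtJ.ExtZero
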