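import Groth.Agent.Lib.EtJ.ExtZero
import Mathlib.CategoryTheory.Functor.Flat
import Mathlib.CategoryTheory.Filtered.Final

/-!
# Inverse image on small etale sites is exact
-/

universe u

open CategoryTheory CategoryTheory.Limits AlgebraicGeometry Opposite

namespace Groth.Agent.Lib.EtJ.PullExact

variable {X Y : Scheme.{u}} (f : X ⟶ Y)

instance hasExactColimits_costructuredArrow_bc (W : X.Etaleᵒᵖ) :
    HasExactColimitsOfShape (CostructuredArrow (EtCoh.bc f).op W) AddCommGrpCat.{u + 1} := by
  have : IsFiltered (CostructuredArrow (EtCoh.bc f).op W) :=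
    IsFiltered.of_equivalence (structuredArrowOpEquivalence (EtCoh.bc f) W.unop)
  have : AB5OfSize.{u, u + 1} AddCommGrpCat.{u + 1} := AB5OfSize_of_univLE AddCommGrpCat.{u + 1}
  exact AB5OfSize.ofShape _

/-- `f^{-1}` is left exact. -/
instance pull_preservesFiniteLimits : PreservesFiniteLimits (EtCoh.pull f) := by
  have : PreservesFiniteLimits ((EtCoh.bc f).op.lan :
      (_ ⥤ AddCommGrpCat.{u + 1}) ⥤ _) := ExtZero.lan_preservesFiniteLimits_of_exact _
  have : PreservesFiniteLimits
      (Functor.sheafPullbackConstruction.sheafPullback (EtCoh.bc f)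
        AddCommGrpCat.{u + 1} Y.smallEtaleTopology X.smallEtaleTopology) := by
    have : PreservesFiniteLimits ((EtCoh.bc f).op.lan ⋙
        presheafToSheaf X.smallEtaleTopology AddCommGrpCat.{u + 1}) :=
      comp_preservesFiniteLimits _ _
    exact comp_preservesFiniteLimits _ _
  exact preservesFiniteLimits_of_natIso
    (Functor.sheafPullbackConstruction.sheafPullbackIso (EtCoh.bc f)
      AddCommGrpCat.{u + 1} Y.smallEtaleTopology X.smallEtaleTopology).symm

instance push_preservesInjectiveObjects : (EtCoh.push f).PreservesInjectiveObjects :=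
  have : PreservesLimitsOfShape WalkingCospan (EtCoh.pull f) := inferInstance
  Functor.preservesInjectiveObjects_of_adjunction_of_preservesMonomorphisms (EtCoh.pullPushAdj f)

end Groth.Agent.Lib.EtJ.PullExact
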