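import Groth.Agent.Lib.EtJ.Basic
import Groth.Prelude.Def_EtCore
import Mathlib.CategoryTheory.Sites.SheafCohomology.Basic
import Mathlib.CategoryTheory.Adjunction.Unique

/-!
# Pulled back sections

For `f : X ⟶ Y` and `V` in `Y.Etale` whose base change to `X` is final, sections of `G` over `V`
give global sections of `f⁻¹ G`; this describes `EtCore.pullConst` and `EtCore.pullComp` on
global sections.
-/

universe u

open CategoryTheory CategoryTheory.Limits AlgebraicGeometry Opposite AddCommGrpCat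

namespace Groth.Agent.Lib.EtJ.PullSec

/-- Maps from the constant sheaf `ℤ` are global sections. -/
noncomputable def elem (X : Scheme.{u}) (F : EtCoh.Ab X) :
    (EtCoh.const X ℤ ⟶ F) ≃+ EtCoh.sect F (EtCoh.top X) :=
  ((EtCore.constAdj X).homAddEquiv _ F).trans (uliftZMultiplesAddEquiv _)

theorem elem_comp (X : Scheme.{u}) {F G : EtCoh.Ab X} (a : EtCoh.const X ℤ ⟶ F) (m : F ⟶ G) :
    elem X G (a ≫ m) = m.hom.app (op (EtCoh.top X)) (elem X F a) := by
  change uliftZMultiplesAddEquiv _ ((EtCore.constAdj X).homEquiv _ _ (a ≫ m)) = _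
  rw [Adjunction.homEquiv_naturality_right]
  rfl

section

variable {X Y : Scheme.{u}} (f : X ⟶ Y) (V : Y.Etale) (hV : IsTerminal ((EtCoh.bc f).obj V))
  (G : EtCoh.Ab Y)

/-- The pullback of a section over `V`, as a global section. -/
noncomputable def pullSec :
    EtCoh.sect G V →+ EtCoh.sect ((EtCoh.pull f).obj G) (EtCoh.top X) :=
  (((EtCoh.pullPushAdj f).unit.app G).hom.app (op V) ≫
    ((EtCoh.pull f).obj G).obj.map (hV.from (EtCoh.top X)).op).hom

theorem pullSec_apply (s : EtCoh.sect G V) :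
    pullSec f V hV G s = ((EtCoh.pull f).obj G).obj.map (hV.from (EtCoh.top X)).op
      (((EtCoh.pullPushAdj f).unit.app G).hom.app (op V) s) := rfl

theorem pullSec_natural {G' : EtCoh.Ab Y} (φ : G ⟶ G') (s : EtCoh.sect G V) :
    pullSec f V hV G' (φ.hom.app (op V) s) =
      ((EtCoh.pull f).map φ).hom.app (op (EtCoh.top X)) (pullSec f V hV G s) := by
  have h₁ := ConcreteCategory.congr_hom
    (congr_arg (fun m => m.hom.app (op V)) ((EtCoh.pullPushAdj f).unit.naturality φ)) s
  have h₂ := ConcreteCategory.congr_hom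
    (((EtCoh.pull f).map φ).hom.naturality (hV.from (EtCoh.top X)).op)
    (((EtCoh.pullPushAdj f).unit.app G).hom.app (op V) s)
  rw [pullSec_apply, pullSec_apply]
  exact (congrArg _ h₁).trans h₂.symm

theorem pullSec_map {V' : Y.Etale} (h : V' ⟶ V) (hV' : IsTerminal ((EtCoh.bc f).obj V'))
    (s : EtCoh.sect G V) :
    pullSec f V' hV' G (G.obj.map h.op s) = pullSec f V hV G s := by
  have h₁ := ConcreteCategory.congr_hom
    (((EtCoh.pullPushAdj f).unit.app G).hom.naturality h.op) s
  rw [pullSec_apply, pullSec_apply]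
  refine (congrArg _ h₁).trans ?_
  refine (ConcreteCategory.congr_hom
    (((EtCoh.pull f).obj G).obj.map_comp ((EtCoh.bc f).map h).op (hV'.from (EtCoh.top X)).op) _).symm.trans ?_
  rw [← op_comp, hV.hom_ext (hV'.from (EtCoh.top X) ≫ (EtCoh.bc f).map h) (hV.from (EtCoh.top X))]
  rfl

theorem elem_pullConst_inv :
    elem X _ (EtCore.pullConst f ℤ).inv =
      pullSec f (EtCoh.top Y) (EtCore.bcTopIsTerminal f) _ (elem Y _ (𝟙 (EtCoh.const Y ℤ))) := by
  have h := Adjunction.homEquiv_leftAdjointUniq_hom_app (EtCore.constAdj X)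
    (((EtCore.constAdj Y).comp (EtCoh.pullPushAdj f)).ofNatIsoRight (EtCore.pushGsecIso f))
    (AddCommGrpCat.of (ULift.{u + 1} ℤ))
  have hid : (EtCore.constAdj Y).homEquiv _ _ (𝟙 (EtCoh.const Y ℤ)) =
      (EtCore.constAdj Y).unit.app _ := Adjunction.homEquiv_id _ _
  change uliftZMultiplesAddEquiv _ ((EtCore.constAdj X).homEquiv _ _ (EtCore.pullConst f ℤ).inv) =
    pullSec f (EtCoh.top Y) (EtCore.bcTopIsTerminal f) _
      (uliftZMultiplesAddEquiv _ ((EtCore.constAdj Y).homEquiv _ _ (𝟙 (EtCoh.const Y ℤ))))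
  rw [hid]
  refine (congrArg (uliftZMultiplesAddEquiv _) h).trans ?_
  have hf : (EtCore.bcTopIso f).inv = (EtCore.bcTopIsTerminal f).from (EtCoh.top X) :=
    (EtCore.bcTopIsTerminal f).hom_ext _ _
  simp [Adjunction.ofNatIsoRight, Adjunction.comp, EtCore.pushGsecIso, pullSec_apply, ← hf]
  rfl

/-- `elem` of a pullback. -/
theorem elem_pull (φ : EtCoh.const Y ℤ ⟶ G) :
    elem X _ ((EtCore.pullConst f ℤ).inv ≫ (EtCoh.pull f).map φ) =
      pullSec f (EtCoh.top Y) (EtCore.bcTopIsTerminal f) G (elem Y G φ) := by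
  rw [elem_comp, elem_pullConst_inv, ← pullSec_natural, ← elem_comp, Category.id_comp]

end

section Comp

variable {X Y Z : Scheme.{u}} (f : X ⟶ Y) (g : Y ⟶ Z) (f₀ : X ⟶ Z) (w : f ≫ g = f₀)

theorem map_unique {C : Type*} [Category C] (P : Cᵒᵖ ⥤ AddCommGrpCat.{u + 1}) {A B B' W : C}
    (hW : IsTerminal W) (a : A ⟶ W) (b : A ⟶ B) (b' : B ⟶ W) (c : A ⟶ B') (c' : B' ⟶ W)
    (x : P.obj (op W)) :
    P.map b.op (P.map b'.op x) = P.map c.op (P.map c'.op x) ∧
      P.map b.op (P.map b'.op x) = P.map a.op x := by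
  simp only [← ConcreteCategory.comp_apply, ← Functor.map_comp, ← op_comp]
  exact ⟨by rw [hW.hom_ext (b ≫ b') (c ≫ c')], by rw [hW.hom_ext (b ≫ b') a]⟩

theorem pullComp_pullSec (V : Z.Etale) (hg : IsTerminal ((EtCoh.bc g).obj V))
    (h₀ : IsTerminal ((EtCoh.bc f₀).obj V)) (G : EtCoh.Ab Z) (s : EtCoh.sect G V) :
    (((EtCore.pullComp f g).symm ≪≫ EtCore.pullCongr w).app G).hom.hom.app (op (EtCoh.top X))
        (pullSec f (EtCoh.top Y) (EtCore.bcTopIsTerminal f) _ (pullSec g V hg G s)) =
      pullSec f₀ V h₀ G s := by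
  subst w
  let c := (((EtCore.pullComp f g).symm ≪≫ EtCore.pullCongr (rfl : f ≫ g = f ≫ g)).app G).hom
  have hc : c = (EtCore.pullComp f g).inv.app G := by
    simp [c, EtCore.pullCongr]
  let e : (EtCoh.bc g ⋙ EtCoh.bc f) ≅ EtCoh.bc (f ≫ g) :=
    (MorphismProperty.Over.pullbackComp (P := EtCoh.etaleMP) (Q := ⊤) f g (f ≫ g)).symm
  have hW : IsTerminal ((EtCoh.bc f).obj ((EtCoh.bc g).obj V)) :=
    h₀.ofIso (e.app V).symm
  have h := Adjunction.unit_leftAdjointUniq_hom_app
    (((EtCoh.pullPushAdj g).comp (EtCoh.pullPushAdj f)).ofNatIsoRight (EtCoh.pushComp g f))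
    (EtCoh.pullPushAdj (f ≫ g)) G
  have h' := ConcreteCategory.congr_hom (congr_arg (fun m => m.hom.app (op V)) h) s
  let P := (EtCoh.pull f).obj ((EtCoh.pull g).obj G)
  let y := ((EtCoh.pullPushAdj g).unit.app G).hom.app (op V) s
  let x := ((EtCoh.pullPushAdj f).unit.app ((EtCoh.pull g).obj G)).hom.app
      (op ((EtCoh.bc g).obj V)) y
  have hu : (((((EtCoh.pullPushAdj g).comp (EtCoh.pullPushAdj f)).ofNatIsoRight
      (EtCoh.pushComp g f)).unit.app G).hom.app (op V)) s = P.obj.map (e.inv.app V).op x := by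
    simp [Adjunction.ofNatIsoRight, Adjunction.comp, EtCoh.pushComp, P, x, y, e]
    rfl
  have hs : pullSec (f ≫ g) V h₀ G s =
      c.hom.app (op (EtCoh.top X)) (P.obj.map (h₀.from (EtCoh.top X)).op
        (P.obj.map (e.inv.app V).op x)) := by
    rw [pullSec_apply, ← h', hc, ← hu]
    exact (ConcreteCategory.congr_hom
      (((EtCore.pullComp f g).inv.app G).hom.naturality (h₀.from (EtCoh.top X)).op) _).symm
  rw [hs]
  refine congrArg (c.hom.app (op (EtCoh.top X))) ?_
  have hn : pullSec f (EtCoh.top Y) (EtCore.bcTopIsTerminal f) _ (pullSec g V hg G s) =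
      P.obj.map ((EtCore.bcTopIsTerminal f).from (EtCoh.top X)).op
        (P.obj.map ((EtCoh.bc f).map (hg.from (EtCoh.top Y))).op x) := by
    rw [pullSec_apply, pullSec_apply]
    exact congrArg _ (ConcreteCategory.congr_hom
      (((EtCoh.pullPushAdj f).unit.app ((EtCoh.pull g).obj G)).hom.naturality
        (hg.from (EtCoh.top Y)).op) y)
  exact hn.trans (map_unique P.obj hW (hW.from _) _ _ _ _ x).1

end Comp

section Mono

variable {U X : Scheme.{u}} (j : U ⟶ X) [AlgebraicGeometry.Etale j] [Mono j]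

/-- If `f` factors through the monomorphism `j`, the base change of `U → X` along `f` is final. -/
noncomputable def bcIsTerminal {W : Scheme.{u}} (f : W ⟶ X) (a : W ⟶ U) (ha : a ≫ j = f) :
    IsTerminal ((EtCoh.bc f).obj (Scheme.Etale.mk j)) :=
  IsTerminal.ofUniqueHom
    (fun T => MorphismProperty.Over.homMk
      (pullback.lift (f := j) (g := f) (T.hom ≫ a) T.hom
        ((Category.assoc _ _ _).trans (congrArg (T.hom ≫ ·) ha)))
      (pullback.lift_snd _ _ _))
    (fun T m => by
      let m' : T.left ⟶ pullback j f := m.left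
      have h₁ : m' ≫ pullback.snd j f = T.hom := MorphismProperty.Over.w m
      apply MorphismProperty.Over.Hom.ext
      change m' = pullback.lift _ _ _
      apply pullback.hom_ext
      · rw [← cancel_mono j, Category.assoc, pullback.condition, reassoc_of% h₁,
          pullback.lift_fst, Category.assoc, ha]
      · rw [h₁, pullback.lift_snd])

theorem subsingleton_hom_mk (T : X.Etale) :
    Subsingleton (@Quiver.Hom X.Etale _ T (Scheme.Etale.mk j)) := by
  refine ⟨fun a b => MorphismProperty.Over.Hom.ext ((cancel_mono j).1 ?_)⟩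
  exact (MorphismProperty.Over.w a).trans (MorphismProperty.Over.w b).symm

theorem isIso_counit :
    IsIso ((Basic.compEtaleAdj j).counit.app (Scheme.Etale.mk j)) := by
  let T := (EtShriek.compEtale j).obj ((EtCoh.bc j).obj (Scheme.Etale.mk j))
  let r : Scheme.Etale.mk j ⟶ T :=
    MorphismProperty.Over.homMk (pullback.lift (f := j) (g := j) (𝟙 U) (𝟙 U) rfl) (by
      change pullback.lift (f := j) (g := j) (𝟙 U) (𝟙 U) rfl ≫ pullback.snd j j ≫ j = j
      rw [pullback.lift_snd_assoc, Category.id_comp])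
  refine ⟨⟨r, ?_, (subsingleton_hom_mk j _).elim _ _⟩⟩
  have : Mono (pullback.snd j j) := inferInstance
  apply MorphismProperty.Over.Hom.ext
  let q : @Quiver.Hom X.Etale _ T T := (Basic.compEtaleAdj j).counit.app (Scheme.Etale.mk j) ≫ r
  let m : T.left ⟶ pullback j j := q.left
  have hm : m ≫ pullback.snd j j ≫ j = pullback.snd j j ≫ j := MorphismProperty.Over.w q
  refine (cancel_mono (pullback.snd j j ≫ j)).1 (hm.trans ?_)
  exact (Category.id_comp _).symm

theorem pullSec_bijective (G : EtCoh.Ab X) :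
    Function.Bijective
      (pullSec j (Scheme.Etale.mk j) (bcIsTerminal j j (𝟙 U) (Category.id_comp j)) G) := by
  let V := Scheme.Etale.mk j
  let hV := bcIsTerminal j j (𝟙 U) (Category.id_comp j)
  have := isIso_counit j
  have hm : IsIso (hV.from (EtCoh.top U)) :=
    ⟨⟨(EtCore.topIsTerminal U).from _, (EtCore.topIsTerminal U).hom_ext _ _, hV.hom_ext _ _⟩⟩
  have hu : IsIso (((EtCoh.pullPushAdj j).unit.app G).hom.app (op V)) := by
    have h : (EtCoh.pullPushAdj j).unit.app G ≫
        (EtCoh.push j).map ((Basic.pullIsoRestr j).hom.app G) = (Basic.restrPushAdj j).unit.app G :=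
      Adjunction.unit_leftAdjointUniq_hom_app (EtCoh.pullPushAdj j) (Basic.restrPushAdj j) G
    have h' := congrArg (fun m => m.hom.app (op V)) h
    have : IsIso (((Basic.restrPushAdj j).unit.app G).hom.app (op V)) := by
      have h0 : IsIso (G.obj.map ((Basic.compEtaleAdj j).counit.app V).op) := inferInstance
      simp [Basic.restrPushAdj, V] at h0 ⊢
      exact h0
    have : IsIso (((EtCoh.push j).map ((Basic.pullIsoRestr j).hom.app G)).hom.app (op V)) :=
      inferInstanceAs (IsIso (((sheafSections _ AddCommGrpCat.{u + 1}).obj (op V)).map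
        ((EtCoh.push j).map ((Basic.pullIsoRestr j).hom.app G))))
    exact IsIso.of_isIso_fac_right h'
  have hr : IsIso (((EtCoh.pull j).obj G).obj.map (hV.from (EtCoh.top U)).op) := inferInstance
  exact (ConcreteCategory.bijective_of_isIso
      (((EtCoh.pull j).obj G).obj.map (hV.from (EtCoh.top U)).op)).comp
    (ConcreteCategory.bijective_of_isIso (((EtCoh.pullPushAdj j).unit.app G).hom.app (op V)))

end Mono

end Groth.Agent.Lib.EtJ.PullSec
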