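import Mathlib.Algebra.Homology.DerivedCategory.Ext.Map
import Mathlib.Algebra.Homology.DerivedCategory.Ext.ExactSequences
import Mathlib.Algebra.Homology.DerivedCategory.Ext.EnoughInjectives

/-!
# Functoriality of the action of exact functors on Ext groups
-/

universe w w' w'' v v' v'' u u' u''

namespace Groth.Agent.Lib.EtJ.ExtNat

open CategoryTheory CategoryTheory.Limits CategoryTheory.Abelian

variable {C : Type u} [Category.{v} C] [Abelian C] {D : Type u'} [Category.{v'} D] [Abelian D]
  {E : Type u''} [Category.{v''} E] [Abelian E]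
  [HasExt.{w} C] [HasExt.{w'} D] [HasExt.{w''} E] [EnoughInjectives C]

/-- Every class of positive degree is a class composed with the class of an extension. -/
theorem exists_eq_comp_extClass {X Y : C} {n : ℕ} (e : Ext.{w} X Y (n + 1)) :
    ∃ (S : ShortComplex C) (hS : S.ShortExact) (i : S.X₁ ⟶ Y) (e' : Ext.{w} X S.X₃ n),
      e = (e'.comp hS.extClass rfl).comp (Ext.mk₀ i) (add_zero _) := by
  obtain ⟨P⟩ := EnoughInjectives.presentation Y
  let S : ShortComplex C := ShortComplex.mk P.f (cokernel.π P.f) (cokernel.condition _)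
  have hS : S.ShortExact :=
    { exact := ShortComplex.exact_of_g_is_cokernel _ (cokernelIsCokernel P.f) }
  have : Injective S.X₂ := P.injective
  obtain ⟨e', he⟩ := Ext.covariant_sequence_exact₁ X hS e (Ext.eq_zero_of_injective _) rfl
  exact ⟨S, hS, 𝟙 _, e', by rw [Ext.comp_mk₀_id]; exact he.symm⟩

variable (F G : C ⥤ D) [F.Additive] [PreservesFiniteLimits F] [PreservesFiniteColimits F]
  [G.Additive] [PreservesFiniteLimits G] [PreservesFiniteColimits G]

theorem mapExact_natural (α : F ⟶ G) {X Y : C} {n : ℕ} (e : Ext.{w} X Y n) :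
    (e.mapExactFunctor F).comp (Ext.mk₀ (α.app Y)) (add_zero n) =
      (Ext.mk₀ (α.app X)).comp (e.mapExactFunctor G) (zero_add n) := by
  induction n generalizing X Y with
  | zero =>
    obtain ⟨f, rfl⟩ := (Ext.mk₀_bijective X Y).2 e
    simp [Ext.mapExactFunctor_mk₀]
  | succ n ih =>
    obtain ⟨S, hS, i, e', rfl⟩ := exists_eq_comp_extClass e
    have h₀ : ((Ext.mk₀ i).mapExactFunctor F).comp (Ext.mk₀ (α.app Y)) (add_zero 0) =
        (Ext.mk₀ (α.app S.X₁)).comp ((Ext.mk₀ i).mapExactFunctor G) (zero_add 0) := by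
      simp [Ext.mapExactFunctor_mk₀]
    have h₁ : (hS.map_of_exact F).extClass.comp (Ext.mk₀ (α.app S.X₁)) (add_zero 1) =
        (Ext.mk₀ (α.app S.X₃)).comp (hS.map_of_exact G).extClass (zero_add 1) :=
      (hS.map_of_exact F).extClass_naturality (hS.map_of_exact G) (S.mapNatTrans α)
    have h₁' : (hS.extClass.mapExactFunctor F).comp (Ext.mk₀ (α.app S.X₁)) (add_zero 1) =
        (Ext.mk₀ (α.app S.X₃)).comp (hS.extClass.mapExactFunctor G) (zero_add 1) := by
      simp only [Ext.mapExactFunctor_extClass]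
      exact h₁
    simp only [Ext.mapExactFunctor_comp]
    rw [Ext.comp_assoc_of_third_deg_zero, h₀, ← Ext.comp_assoc_of_third_deg_zero,
      Ext.comp_assoc_of_third_deg_zero _ (hS.extClass.mapExactFunctor F), h₁',
      ← Ext.comp_assoc_of_second_deg_zero, ih e',
      Ext.comp_assoc _ _ _ (zero_add n) rfl (by omega),
      Ext.comp_assoc _ _ _ (zero_add (n + 1)) (add_zero (n + 1)) (by omega)]

theorem mapExact_comp (K : D ⥤ E) [K.Additive] [PreservesFiniteLimits K]
    [PreservesFiniteColimits K] [(F ⋙ K).Additive] [PreservesFiniteLimits (F ⋙ K)]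
    [PreservesFiniteColimits (F ⋙ K)] {X Y : C} {n : ℕ} (e : Ext.{w} X Y n) :
    e.mapExactFunctor (F ⋙ K) = (e.mapExactFunctor F).mapExactFunctor K := by
  induction n generalizing X Y with
  | zero =>
    obtain ⟨f, rfl⟩ := (Ext.mk₀_bijective X Y).2 e
    simp [Ext.mapExactFunctor_mk₀]
  | succ n ih =>
    obtain ⟨S, hS, i, e', rfl⟩ := exists_eq_comp_extClass e
    have hcls : hS.extClass.mapExactFunctor (F ⋙ K) =
        (hS.extClass.mapExactFunctor F).mapExactFunctor K := by
      rw [Ext.mapExactFunctor_extClass, Ext.mapExactFunctor_extClass]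
      exact (Ext.mapExactFunctor_extClass K (hS.map_of_exact F)).symm
    simp only [Ext.mapExactFunctor_comp, Ext.mapExactFunctor_mk₀, ih, hcls]
    rfl

end Groth.Agent.Lib.EtJ.ExtNat
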