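import Mathlib.Algebra.Homology.DerivedCategory.Ext.Map
import Mathlib.Algebra.Homology.DerivedCategory.Ext.ExactSequences
import Mathlib.Algebra.Homology.DerivedCategory.Ext.EnoughInjectives
import Mathlib.CategoryTheory.Preadditive.Injective.Preserves
import Mathlib.CategoryTheory.Adjunction.Additive

/-!
# Ext groups along an exact functor preserving injectives

If `R : D ⥤ C` is exact and preserves injectives and `η : X ⟶ R Z` induces bijections
`Hom(Z, Y) ≅ Hom(X, R Y)`, it induces bijections `Ext^n(Z, Y) ≅ Ext^n(X, R Y)`.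
-/

universe w w' v v' u u'

namespace Groth.Agent.Lib.EtJ.ExtAdj

open CategoryTheory CategoryTheory.Limits CategoryTheory.Abelian

variable {C : Type u} [Category.{v} C] [Abelian C] {D : Type u'} [Category.{v'} D] [Abelian D]
  [HasExt.{w} C] [HasExt.{w'} D]
  (R : D ⥤ C) [R.Additive] [PreservesFiniteLimits R] [PreservesFiniteColimits R]
  {X : C} {Z : D} (η : X ⟶ R.obj Z)

/-- The map `Ext^n(Z, Y) → Ext^n(X, R Y)` induced by `η`. -/
noncomputable def extTr (Y : D) (n : ℕ) : Ext.{w'} Z Y n →+ Ext.{w} X (R.obj Y) n :=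
  AddMonoidHom.mk' (fun e => (Ext.mk₀ η).comp (e.mapExactFunctor R) (zero_add n))
    (fun e e' => by simp [Ext.mapExactFunctor_add, Ext.comp_add])

lemma extTr_comp {Y Y' : D} {a b c : ℕ} (e : Ext.{w'} Z Y a) (f : Ext.{w'} Y Y' b) (h : a + b = c) :
    extTr R η Y' c (e.comp f h) = (extTr R η Y a e).comp (f.mapExactFunctor R) h := by
  simp only [extTr, AddMonoidHom.mk'_apply, Ext.mapExactFunctor_comp]
  rw [Ext.comp_assoc _ _ _ (zero_add a) h (by omega)]

lemma extTr_comp_mk₀ {Y Y' : D} {a : ℕ} (e : Ext.{w'} Z Y a) (f : Y ⟶ Y') :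
    extTr R η Y' a (e.comp (Ext.mk₀ f) (add_zero a)) =
      (extTr R η Y a e).comp (Ext.mk₀ (R.map f)) (add_zero a) := by
  rw [extTr_comp, Ext.mapExactFunctor_mk₀]

lemma extTr_mk₀ {Y : D} (f : Z ⟶ Y) :
    extTr R η Y 0 (Ext.mk₀ f) = Ext.mk₀ (η ≫ R.map f) := by
  simp [extTr, Ext.mapExactFunctor_mk₀]

variable [EnoughInjectives D] [R.PreservesInjectiveObjects]

theorem extTr_bijective (hη : ∀ Y, Function.Bijective fun f : Z ⟶ Y => η ≫ R.map f) :
    ∀ (n : ℕ) (Y : D), Function.Bijective (extTr R η Y n) := by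
  intro n
  induction n with
  | zero =>
    intro Y
    refine (Function.Bijective.of_comp_iff _ (Ext.mk₀_bijective Z Y)).1 ?_
    have : (extTr R η Y 0 ∘ Ext.mk₀) = Ext.mk₀ ∘ fun f : Z ⟶ Y => η ≫ R.map f :=
      funext fun f => extTr_mk₀ R η f
    rw [this]
    exact (Ext.mk₀_bijective _ _).comp (hη Y)
  | succ n ih =>
    intro Y
    obtain ⟨P⟩ := EnoughInjectives.presentation Y
    let S : ShortComplex D := ShortComplex.mk P.f (cokernel.π P.f) (cokernel.condition _)
    have hS : S.ShortExact :=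
      { exact := ShortComplex.exact_of_g_is_cokernel _ (cokernelIsCokernel P.f) }
    have : Injective S.X₂ := P.injective
    have hRS := hS.map_of_exact R
    have hδ : ∀ x : Ext.{w'} Z S.X₃ n, extTr R η S.X₁ (n + 1) (x.comp hS.extClass rfl) =
        (extTr R η S.X₃ n x).comp hRS.extClass rfl := fun x => by
      rw [extTr_comp, Ext.mapExactFunctor_extClass]
      rfl
    have sD : ∀ e : Ext.{w'} Z S.X₁ (n + 1), ∃ e' : Ext.{w'} Z S.X₃ n, e'.comp hS.extClass rfl = e := fun e =>
      Ext.covariant_sequence_exact₁ Z hS e (Ext.eq_zero_of_injective _) rfl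
    constructor
    · refine (injective_iff_map_eq_zero _).2 fun e he => ?_
      obtain ⟨x, rfl⟩ := sD e
      have he' : (extTr R η S.X₃ n x).comp hRS.extClass rfl = 0 := (hδ x).symm.trans he
      obtain ⟨f, hf⟩ := Ext.covariant_sequence_exact₃ X hRS (extTr R η S.X₃ n x) rfl he'
      obtain ⟨y, hy⟩ := (ih S.X₂).2 f
      have hx : x = y.comp (Ext.mk₀ S.g) (add_zero n) := (ih S.X₃).1 (by
        rw [extTr_comp_mk₀, hy]
        exact hf.symm)
      rw [hx, Ext.comp_assoc _ _ _ (add_zero n) (zero_add 1) (by omega), hS.comp_extClass,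
        Ext.comp_zero]
    · intro e
      have : Injective (S.map R).X₂ := R.injective_obj S.X₂
      obtain ⟨e', he'⟩ := Ext.covariant_sequence_exact₁ X hRS e
        (Ext.eq_zero_of_injective _) rfl
      obtain ⟨x, hx⟩ := (ih S.X₃).2 e'
      exact ⟨x.comp hS.extClass rfl, (hδ x).trans (hx ▸ he')⟩

/-- The isomorphism `Ext^n(Z, Y) ≅ Ext^n(X, R Y)`. -/
noncomputable def extTrEquiv (hη : ∀ Y, Function.Bijective fun f : Z ⟶ Y => η ≫ R.map f)
    (Y : D) (n : ℕ) : Ext.{w'} Z Y n ≃+ Ext.{w} X (R.obj Y) n :=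
  AddEquiv.ofBijective (extTr R η Y n) (extTr_bijective R η hη n Y)

/-- The case of an adjunction `L ⊣ R` (with `η` the unit). -/
noncomputable def adjExtEquiv {L : C ⥤ D} (adj : L ⊣ R) (X : C) (Y : D) (n : ℕ) :
    Ext.{w'} (L.obj X) Y n ≃+ Ext.{w} X (R.obj Y) n :=
  extTrEquiv R (adj.unit.app X) (fun Y => by
    exact (funext fun f => (adj.homEquiv_unit X Y f).symm) ▸ (adj.homEquiv X Y).bijective) Y n

end Groth.Agent.Lib.EtJ.ExtAdj
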