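import Groth.Prelude.Def_EtShriek2
import Groth.Prelude.Def_PBC
import Groth.Agent.Lib.EtSite.Stalk
import Mathlib.CategoryTheory.Sites.Point.Skyscraper
import Mathlib.AlgebraicGeometry.Morphisms.UniversallyOpen
import Mathlib.CategoryTheory.Preadditive.AdditiveFunctor
import Mathlib.CategoryTheory.Limits.Preserves.Shapes.Zero

/-!
# Supports of sections of abelian etale sheaves
-/

universe u

open CategoryTheory CategoryTheory.Limits AlgebraicGeometry Opposite

namespace Groth.Agent.Lib.EtJ.Supp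

variable {X : Scheme.{u}} {Ω : Type u} [Field Ω] [IsSepClosed Ω]
  {ξ : Spec (CommRingCat.of Ω) ⟶ X}

/-- The germ of a section at a geometric point. -/
noncomputable abbrev germ (F : EtCoh.Ab X) (U : X.Etale)
    (p : (Scheme.pointSmallEtale ξ).fiber.obj U) :
    F.obj.obj (op U) ⟶ (EtCoh.stalk ξ).obj F :=
  (Scheme.pointSmallEtale ξ).toPresheafFiber U p F.obj

theorem germ_eq_zero_iff (F : EtCoh.Ab X) (U : X.Etale)
    (p : (Scheme.pointSmallEtale ξ).fiber.obj U) (s : EtCoh.sect F U) :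
    germ F U p s = 0 ↔ ∃ (V : X.Etale) (g : V ⟶ U) (q : (Scheme.pointSmallEtale ξ).fiber.obj V),
      (Scheme.pointSmallEtale ξ).fiber.map g q = p ∧ F.obj.map g.op s = 0 := by
  rw [← map_zero (germ F U p).hom]
  refine ((Scheme.pointSmallEtale ξ).toPresheafFiber_eq_iff' U p s 0).trans ?_
  simp only [map_zero]

/-- The germ vanishes iff the point is outside the support. -/
theorem germ_eq_zero_iff_notMem (F : EtCoh.Ab X) (U : X.Etale)
    (p : (Scheme.pointSmallEtale ξ).fiber.obj U) (s : EtCoh.sect F U) :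
    germ F U p s = 0 ↔ EtSite.Basic.fiberPt p ∉ EtShriek.sectSupp F U s := by
  rw [germ_eq_zero_iff]
  constructor
  · rintro ⟨V, g, q, rfl, hs⟩ h
    exact h V g ⟨_, (EtSite.Basic.fiberPt_map g q).symm⟩ hs
  · intro h
    simp only [EtShriek.sectSupp, Set.mem_ofPred_eq, not_forall, not_not] at h
    obtain ⟨V, g, ⟨v, hv⟩, hs⟩ := h
    have : Etale g.left := EtCoh.etaleMP.of_postcomp (W' := EtCoh.etaleMP) g.left U.hom U.prop
      ((MorphismProperty.Over.w g).symm ▸ V.prop)
    obtain ⟨l, hl, hl'⟩ :=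
      Scheme.exists_fac_of_etale_of_isSepClosed g.left (EtSite.Basic.fiberHom p) v hv
    refine ⟨V, g, EtSite.Basic.mkFiber ξ V l ?_, Over.OverMorphism.ext hl, hs⟩
    rw [← MorphismProperty.Over.w g, ← Category.assoc, hl, EtSite.Basic.fiberHom_comp]

theorem isOpenMap_left {U V : X.Etale} (g : V ⟶ U) : IsOpenMap g.left.base := by
  have : Etale g.left := EtCoh.etaleMP.of_postcomp (W' := EtCoh.etaleMP) g.left U.hom U.prop
    ((MorphismProperty.Over.w g).symm ▸ V.prop)
  exact g.left.isOpenMap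

theorem isClosed_sectSupp (F : EtCoh.Ab X) (U : X.Etale) (s : EtCoh.sect F U) :
    IsClosed (EtShriek.sectSupp F U s) := by
  rw [← isOpen_compl_iff, isOpen_iff_forall_mem_open]
  intro x hx
  simp only [EtShriek.sectSupp, Set.mem_compl_iff, Set.mem_ofPred_eq, not_forall, not_not] at hx
  obtain ⟨V, g, ⟨v, hv⟩, hs⟩ := hx
  refine ⟨Set.range g.left.base, ?_, (isOpenMap_left g).isOpen_range, v, hv⟩
  rintro _ ⟨w, rfl⟩ h
  exact h V g ⟨w, rfl⟩ hs

theorem stalk_isZero_iff (F : EtCoh.Ab X) :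
    IsZero ((EtCoh.stalk ξ).obj F) ↔ ∀ (U : X.Etale)
      (p : (Scheme.pointSmallEtale ξ).fiber.obj U) (s : EtCoh.sect F U), germ F U p s = 0 := by
  rw [AddCommGrpCat.isZero_iff_subsingleton]
  refine ⟨fun h U p s => @Subsingleton.elim _ h _ _, fun h => subsingleton_of_forall_eq 0 fun z => ?_⟩
  obtain ⟨U, p, s, rfl⟩ := (Scheme.pointSmallEtale ξ).toPresheafFiber_jointly_surjective z
  exact h U p s

omit [IsSepClosed Ω] in
theorem range_eq (ξ : Spec (CommRingCat.of Ω) ⟶ X) : Set.range ξ.base = {ξ.base default} :=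
  Set.range_eq_singleton (y := ξ.base default) fun i => by rw [Subsingleton.elim i default]

theorem supp_eq_iUnion (F : EtCoh.Ab X) :
    EtPBC.supp F = ⋃ (U : X.Etale) (σ : EtCoh.sect F U), U.hom.base '' EtShriek.sectSupp F U σ := by
  ext x
  simp only [Set.mem_iUnion, Set.mem_image]
  constructor
  · rintro ⟨Ω', _, _, ξ', hξ, hne⟩
    simp only [stalk_isZero_iff, not_forall] at hne
    obtain ⟨U, p, s, hs⟩ := hne
    rw [germ_eq_zero_iff_notMem, not_not] at hs
    refine ⟨U, s, _, hs, ?_⟩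
    rw [EtSite.Basic.hom_fiberPt]
    exact Set.eq_of_mem_singleton (hξ ▸ Set.mem_range_self _)
  · rintro ⟨U, s, u, hu, rfl⟩
    obtain ⟨p, hp⟩ := EtSite.Basic.exists_fiber_geomPoint U u
    refine ⟨_, inferInstance, inferInstance, EtSite.Basic.geomPoint X (U.hom.base u), ?_, fun h => ?_⟩
    · exact (range_eq _).trans (by rw [EtSite.Basic.geomPoint_apply])
    · exact (germ_eq_zero_iff_notMem F U p s).1 ((stalk_isZero_iff F).1 h U p s) (hp.symm ▸ hu)

end Groth.Agent.Lib.EtJ.Supp
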