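import Groth.Agent.Lib.EtJ.PullExact
import Groth.Prelude.Def_EtCore
import Mathlib.Algebra.Homology.DerivedCategory.Ext.ExactSequences
import Mathlib.Algebra.Homology.DerivedCategory.Ext.EnoughInjectives

/-!
# Cohomology of an etale `X`-scheme with coefficients in a restricted sheaf
-/

universe u

open CategoryTheory CategoryTheory.Limits CategoryTheory.Abelian AlgebraicGeometry Opposite

namespace Groth.Agent.Lib.EtJ.Coh

variable {X : Scheme.{u}}

instance pull_additive {Y : Scheme.{u}} (f : X ⟶ Y) : (EtCoh.pull f).Additive :=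
  EtCore.pull_additive f

/-- `(W → W → X) ≅ (W → X)`. -/
noncomputable def compEtaleTopIso (W : X.Etale) :
    (EtShriek.compEtale W.hom).obj (EtCoh.top W.left) ≅ W :=
  MorphismProperty.Over.isoMk (Iso.refl _)
    ((Category.id_comp W.hom).trans (Category.id_comp W.hom).symm)

/-- Global sections of `F|_W` are sections of `F` over `W`, naturally in `F`. -/
noncomputable def evalIso (W : X.Etale) :
    EtCoh.pull W.hom ⋙ EtCore.gsec W.left ≅
      (sheafSections X.smallEtaleTopology AddCommGrpCat.{u + 1}).obj (op W) :=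
  Functor.isoWhiskerRight (Basic.pullIsoRestr W.hom) _ ≪≫
    NatIso.ofComponents (fun F => F.obj.mapIso (compEtaleTopIso W).symm.op)
      (fun φ => (φ.hom.naturality (compEtaleTopIso W).inv.op).symm)

/-- `H^0(W, F|_W) ≅ F(W)`. -/
noncomputable def H0Equiv (W : X.Etale) (F : EtCoh.Ab X) :
    EtCoh.H W.left ((EtCoh.pull W.hom).obj F) 0 ≃+ EtCoh.sect F W :=
  (Sheaf.H.equiv₀ ((EtCoh.pull W.hom).obj F) (EtCore.topIsTerminal W.left)).trans
    ((evalIso W).app F).addCommGroupIsoToAddEquiv

theorem H0Equiv_naturality (W : X.Etale) {F G : EtCoh.Ab X} (φ : F ⟶ G)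
    (x : EtCoh.H W.left ((EtCoh.pull W.hom).obj F) 0) :
    H0Equiv W G (Sheaf.H.map ((EtCoh.pull W.hom).map φ) 0 x) =
      φ.hom.app (op W) (H0Equiv W F x) := by
  simp only [H0Equiv, AddEquiv.trans_apply, ← Sheaf.H.equiv₀_naturality]
  exact ConcreteCategory.congr_hom ((evalIso W).hom.naturality φ) _

theorem subsingleton_of_injective (W : X.Etale) (F : EtCoh.Ab X) [Injective F] (q : ℕ)
    (hq : 0 < q) : Subsingleton (EtCoh.H W.left ((EtCoh.pull W.hom).obj F) q) := by
  obtain ⟨q, rfl⟩ := Nat.exists_eq_succ_of_ne_zero hq.ne'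
  infer_instance

variable {S : ShortComplex (EtCoh.Ab X)} (hS : S.ShortExact) (W : X.Etale)

include hS in
/-- If `H^1(W, F|_W) = 0` then sections over `W` lift. -/
theorem sections_surjective
    (h : Subsingleton (EtCoh.H W.left ((EtCoh.pull W.hom).obj S.X₁) 1)) :
    Function.Surjective (S.g.hom.app (op W)) := by
  intro q
  obtain ⟨e, rfl⟩ := (H0Equiv W S.X₃).surjective q
  obtain ⟨y, hy⟩ := Ext.covariant_sequence_exact₃ _ (hS.map_of_exact (EtCoh.pull W.hom)) e
    (zero_add 1) (@Subsingleton.elim _ h _ _)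
  exact ⟨H0Equiv W S.X₂ y, (H0Equiv_naturality W S.g y).symm.trans (congrArg _ hy)⟩

include hS in
/-- If sections lift and `H^1(W, I|_W) = 0` then `H^1(W, F|_W) = 0`. -/
theorem subsingleton_one (hsurj : Function.Surjective (S.g.hom.app (op W)))
    (h : Subsingleton (EtCoh.H W.left ((EtCoh.pull W.hom).obj S.X₂) 1)) :
    Subsingleton (EtCoh.H W.left ((EtCoh.pull W.hom).obj S.X₁) 1) := by
  refine subsingleton_of_forall_eq 0 fun x => ?_
  have hS' := hS.map_of_exact (EtCoh.pull W.hom)
  obtain ⟨e, rfl⟩ := Ext.covariant_sequence_exact₁ _ hS' x (@Subsingleton.elim _ h _ _) (zero_add 1)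
  obtain ⟨i, hi⟩ := hsurj (H0Equiv W S.X₃ e)
  obtain ⟨y, rfl⟩ := (H0Equiv W S.X₂).surjective i
  rw [← H0Equiv_naturality] at hi
  obtain rfl := (H0Equiv W S.X₃).injective hi
  exact Ext.comp_assoc _ _ _ (add_zero 0) (zero_add 1) (by omega) |>.trans
    (by erw [hS'.comp_extClass, Ext.comp_zero]; rfl)

include hS in
theorem subsingleton_succ {q : ℕ}
    (h₃ : Subsingleton (EtCoh.H W.left ((EtCoh.pull W.hom).obj S.X₃) q))
    (h₂ : Subsingleton (EtCoh.H W.left ((EtCoh.pull W.hom).obj S.X₂) (q + 1))) :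
    Subsingleton (EtCoh.H W.left ((EtCoh.pull W.hom).obj S.X₁) (q + 1)) := by
  refine subsingleton_of_forall_eq 0 fun x => ?_
  obtain ⟨e, rfl⟩ := Ext.covariant_sequence_exact₁ _ (hS.map_of_exact (EtCoh.pull W.hom)) x
    (@Subsingleton.elim _ h₂ _ _) rfl
  rw [show e = 0 from @Subsingleton.elim _ h₃ _ _, Ext.zero_comp]
  rfl

include hS in
theorem subsingleton_right {q : ℕ}
    (h₁ : Subsingleton (EtCoh.H W.left ((EtCoh.pull W.hom).obj S.X₁) (q + 1)))
    (h₂ : Subsingleton (EtCoh.H W.left ((EtCoh.pull W.hom).obj S.X₂) q)) :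
    Subsingleton (EtCoh.H W.left ((EtCoh.pull W.hom).obj S.X₃) q) := by
  refine subsingleton_of_forall_eq 0 fun x => ?_
  obtain ⟨e, rfl⟩ := Ext.covariant_sequence_exact₃ _ (hS.map_of_exact (EtCoh.pull W.hom)) x
    rfl (@Subsingleton.elim _ h₁ _ _)
  rw [show e = 0 from @Subsingleton.elim _ h₂ _ _, Ext.zero_comp]
  rfl

instance sections_preservesFiniteLimits (A : X.Etale) :
    PreservesFiniteLimits
      ((sheafSections X.smallEtaleTopology AddCommGrpCat.{u + 1}).obj (op A)) := by
  change PreservesFiniteLimits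
    (sheafToPresheaf X.smallEtaleTopology AddCommGrpCat.{u + 1} ⋙ (evaluation _ _).obj (op A))
  have : PreservesFiniteLimits ((evaluation X.Etaleᵒᵖ AddCommGrpCat.{u + 1}).obj (op A)) :=
    ⟨fun _ _ _ => inferInstance⟩
  exact comp_preservesFiniteLimits _ _

/-- An embedding into an injective sheaf, as a short exact sequence. -/
theorem exists_shortExact_injective (F : EtCoh.Ab X) :
    ∃ (I Q : EtCoh.Ab X) (a : F ⟶ I) (b : I ⟶ Q) (w : a ≫ b = 0),
      Injective I ∧ (ShortComplex.mk a b w).ShortExact := by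
  obtain ⟨P⟩ := EnoughInjectives.presentation F
  exact ⟨P.J, cokernel P.f, P.f, cokernel.π P.f, cokernel.condition _, P.injective,
    { exact := ShortComplex.exact_of_g_is_cokernel _ (cokernelIsCokernel P.f) }⟩

/-- A morphism surjective on all sections is an epimorphism. -/
theorem epi_of_surjective {F G : EtCoh.Ab X} (a : F ⟶ G)
    (h : ∀ W : X.Etale, Function.Surjective (a.hom.app (op W))) : Epi a := by
  have : ∀ U, Epi (a.hom.app U) := fun U =>
    (AddCommGrpCat.epi_iff_surjective _).2 (h U.unop)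
  have : Epi ((sheafToPresheaf _ _).map a) :=
    @NatTrans.epi_of_epi_app _ _ _ _ _ _ a.hom this
  exact (sheafToPresheaf _ _).epi_of_epi_map this

/-- Flasque in the sense of etale cohomology. -/
def IsFlasque (F : EtCoh.Ab X) : Prop :=
  ∀ (W : X.Etale) (q : ℕ), 0 < q → Subsingleton (EtCoh.H W.left ((EtCoh.pull W.hom).obj F) q)

theorem isFlasque_of_injective (F : EtCoh.Ab X) [Injective F] : IsFlasque F :=
  fun W q hq => subsingleton_of_injective W F q hq

theorem IsFlasque.quotient {T : ShortComplex (EtCoh.Ab X)} (hT : T.ShortExact)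
    (h₁ : IsFlasque T.X₁) (h₂ : IsFlasque T.X₂) : IsFlasque T.X₃ :=
  fun W q hq => subsingleton_right hT W (h₁ W (q + 1) q.succ_pos) (h₂ W q hq)

/-- Direct image preserves flasque sheaves. -/
theorem IsFlasque.push {Y : Scheme.{u}} (f : X ⟶ Y) {F : EtCoh.Ab X} (hF : IsFlasque F) :
    IsFlasque ((EtCoh.push f).obj F) := by
  intro W' q hq
  induction q generalizing F with
  | zero => exact absurd hq (lt_irrefl 0)
  | succ q ih =>
    obtain ⟨I, Q, a, b, w, hI, hS⟩ := exists_shortExact_injective F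
    have hQ : IsFlasque Q := IsFlasque.quotient hS hF (isFlasque_of_injective I)
    have hb : ∀ V, Function.Surjective (((EtCoh.push f).map b).hom.app (op V)) := fun V =>
      sections_surjective hS ((EtCoh.bc f).obj V) (hF _ 1 one_pos)
    have hT : ((ShortComplex.mk a b w).map (EtCoh.push f)).ShortExact := by
      have : Epi ((EtCoh.push f).map b) := epi_of_surjective _ hb
      have : PreservesLimitsOfSize.{0, 0} (EtCoh.push f) :=
        (EtCoh.pullPushAdj f).rightAdjoint_preservesLimits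
      have : PreservesFiniteLimits (EtCoh.push f) :=
        PreservesLimitsOfSize.preservesFiniteLimits _
      have := hS.mono_f
      exact { exact := hS.exact.map_of_mono_of_preservesKernel _ hS.mono_f inferInstance
              mono_f := (EtCoh.push f).map_mono a
              epi_g := ‹Epi ((EtCoh.push f).map b)› }
    have hfI := subsingleton_of_injective W' ((EtCoh.push f).obj I)
    rcases Nat.eq_zero_or_pos q with rfl | hq'
    · exact subsingleton_one hT W' (hb W') (hfI 1 one_pos)
    · exact subsingleton_succ hT W' (ih hQ hq') (hfI (q + 1) q.succ_pos)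

/-- Flasque sheaves have surjective restriction along open immersions. -/
theorem IsFlasque.map_surjective {F : EtCoh.Ab X} (hF : IsFlasque F) {U V : X.Etale} (g : V ⟶ U)
    (hI : ∀ (I : EtCoh.Ab X), Injective I → Function.Surjective (I.obj.map g.op))
    (W : X.Etale) (i₁ i₂ : U ⟶ W) (hi : g ≫ i₁ = g ≫ i₂)
    (glue : ∀ (Q : EtCoh.Ab X) (a b : EtCoh.sect Q U), Q.obj.map g.op a = Q.obj.map g.op b →
      ∃ c : EtCoh.sect Q W, Q.obj.map i₁.op c = a ∧ Q.obj.map i₂.op c = b) :
    Function.Surjective (F.obj.map g.op) := by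
  obtain ⟨I, Q, a, b, w, hIinj, hS⟩ := exists_shortExact_injective F
  intro s
  obtain ⟨i, hi'⟩ := hI I hIinj (a.hom.app _ s)
  have hw : ∀ (A : X.Etale) (x : EtCoh.sect F A), b.hom.app _ (a.hom.app _ x) = 0 := fun A x => by
    have := congrArg (fun m : F ⟶ Q => m.hom.app (op A) x) w
    exact this
  have nat : ∀ {A B : X.Etale} (h : A ⟶ B) (x : EtCoh.sect I B),
      b.hom.app _ (I.obj.map h.op x) = Q.obj.map h.op (b.hom.app _ x) := fun h x =>
    ConcreteCategory.congr_hom (b.hom.naturality h.op) x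
  obtain ⟨c, hc₁, hc₂⟩ := glue Q (b.hom.app _ i) 0 (by rw [← nat, hi', hw, map_zero])
  obtain ⟨e, he⟩ := sections_surjective hS W (hF W 1 one_pos) c
  change b.hom.app _ e = c at he
  have := hS.mono_f
  have hex : ∀ (A : X.Etale) (x : EtCoh.sect I A), b.hom.app _ x = 0 →
      ∃ y : EtCoh.sect F A, a.hom.app _ y = x := by
    intro A x hx
    have h := hS.exact.map_of_mono_of_preservesKernel
      ((sheafSections X.smallEtaleTopology AddCommGrpCat.{u + 1}).obj (op A)) hS.mono_f inferInstance
    exact (ShortComplex.ab_exact_iff _).1 h x hx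
  obtain ⟨y₁, hy₁⟩ := hex U (i - I.obj.map i₁.op e) (by rw [map_sub, nat, he, hc₁, sub_self])
  obtain ⟨y₂, hy₂⟩ := hex U (I.obj.map i₂.op e) (by rw [nat, he, hc₂])
  have hinj : Function.Injective (a.hom.app (op V)) := by
    have : Mono (((sheafSections X.smallEtaleTopology AddCommGrpCat.{u + 1}).obj (op V)).map a) :=
      have := hS.mono_f
      ((sheafSections X.smallEtaleTopology AddCommGrpCat.{u + 1}).obj (op V)).map_mono a
    exact (AddCommGrpCat.mono_iff_injective _).1 this
  refine ⟨y₁ + y₂, hinj ?_⟩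
  have nat' : ∀ {A B : X.Etale} (h : A ⟶ B) (x : EtCoh.sect F B),
      a.hom.app _ (F.obj.map h.op x) = I.obj.map h.op (a.hom.app _ x) := fun h x =>
    ConcreteCategory.congr_hom (a.hom.naturality h.op) x
  rw [nat', map_add, hy₁, hy₂, map_add, map_sub, hi']
  simp only [← ConcreteCategory.comp_apply, ← Functor.map_comp, ← op_comp, hi, sub_add_cancel]

end Groth.Agent.Lib.EtJ.Coh
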