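import Groth.Agent.Lib.EtJ.ExtStalk
import Groth.Agent.Lib.EtJ.ExtZero
import Groth.Agent.Lib.EtSite.Stalk
import Groth.Agent.Lib.EtSite.Pull
import Groth.Agent.Lib.BigEt.Unit
import Mathlib.CategoryTheory.Sites.DenseSubsite.InducedTopology

/-!
# Extension by zero along open immersions
-/

universe u

open CategoryTheory CategoryTheory.Limits AlgebraicGeometry Opposite

namespace Groth.Agent.Lib.EtJ.OpenZero

open Groth.Agent.Lib.EtSite

variable {U X : Scheme.{u}} (j : U ⟶ X) [IsOpenImmersion j]

instance compEtale_faithful : (EtShriek.compEtale j).Faithful where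
  map_injective {V W a b} h :=
    MorphismProperty.Over.Hom.ext (congrArg (fun m => m.left) h)

instance compEtale_full : (EtShriek.compEtale j).Full where
  map_surjective {V W} f := by
    let l : V.left ⟶ W.left := f.left
    have h : l ≫ W.hom ≫ j = V.hom ≫ j := MorphismProperty.Over.w f
    have hl : l ≫ W.hom = V.hom := by rw [← cancel_mono j, Category.assoc, h]
    exact ⟨MorphismProperty.Over.homMk l hl, MorphismProperty.Over.Hom.ext rfl⟩

instance compEtale_cocontinuous :
    (EtShriek.compEtale j).IsCocontinuous U.smallEtaleTopology X.smallEtaleTopology where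
  cover_lift {V S} hS := by
    refine (Basic.mem_topology_iff _).2 fun v => ?_
    obtain ⟨T, f, hf, t, ht⟩ := (Basic.mem_topology_iff S).1 hS v
    let l : T.left ⟶ V.left := f.left
    have hl : l ≫ V.hom ≫ j = T.hom := MorphismProperty.Over.w f
    have hT : Etale T.hom := T.prop
    have : Etale ((l ≫ V.hom) ≫ j) := by
      rw [Category.assoc, hl]
      exact hT
    have : Etale (l ≫ V.hom) := Etale.of_comp _ j
    let T' : U.Etale := Scheme.Etale.mk (l ≫ V.hom)
    let f' : T' ⟶ V := MorphismProperty.Over.homMk l rfl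
    refine ⟨T', f', ?_, t, ht⟩
    let e : (EtShriek.compEtale j).obj T' ⟶ T :=
      MorphismProperty.Over.homMk (𝟙 T.left) (by
        change 𝟙 T.left ≫ T.hom = (l ≫ V.hom) ≫ j
        rw [Category.id_comp, Category.assoc, hl])
    have he : (EtShriek.compEtale j).map f' = e ≫ f :=
      MorphismProperty.Over.Hom.ext (Category.id_comp _).symm
    change S ((EtShriek.compEtale j).map f')
    rw [he]
    exact S.downward_closed hf e

theorem isIso_unit (F : EtCoh.Ab U) : IsIso ((EtShriek.extZeroAdj j).unit.app F) :=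
  BigEt.Unit.isIso_unit (EtShriek.compEtale j) AddCommGrpCat.{u + 1} U.smallEtaleTopology
    X.smallEtaleTopology F

theorem isIso_restr_counit (G : EtCoh.Ab X) :
    IsIso ((EtShriek.restrAlong j).map ((EtShriek.extZeroAdj j).counit.app G)) := by
  have := isIso_unit j ((EtShriek.restrAlong j).obj G)
  have h := (EtShriek.extZeroAdj j).right_triangle_components G
  have : IsIso ((EtShriek.extZeroAdj j).unit.app ((EtShriek.restrAlong j).obj G) ≫
      (EtShriek.restrAlong j).map ((EtShriek.extZeroAdj j).counit.app G)) := by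
    rw [h]
    exact IsIso.id _
  exact IsIso.of_isIso_comp_left ((EtShriek.extZeroAdj j).unit.app ((EtShriek.restrAlong j).obj G)) _

variable {Ω : Type u} [Field Ω] [IsSepClosed Ω] (ξ : Spec (CommRingCat.of Ω) ⟶ X)

theorem isZero_stalk (hξ : ξ.base default ∉ Set.range j.base) (F : EtCoh.Ab U) :
    IsZero ((EtCoh.stalk ξ).obj ((EtShriek.extZero j).obj F)) :=
  have : IsEmpty (ExtStalk.Lifts j ξ) :=
    ⟨fun u => hξ ⟨u.1.base default, congrArg (fun m => m.base default) u.2⟩⟩
  ExtStalk.isZero_stalk_extZero j ξ F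

theorem isIso_stalk_counit (hξ : ξ.base default ∈ Set.range j.base) (G : EtCoh.Ab X) :
    IsIso ((EtCoh.stalk ξ).map ((EtShriek.extZeroAdj j).counit.app G)) := by
  have hr : Set.range ξ.base ⊆ Set.range j.base := by
    rintro _ ⟨p, rfl⟩
    rw [Subsingleton.elim p default]
    exact hξ
  obtain ⟨u, rfl⟩ : ∃ u : Spec (CommRingCat.of Ω) ⟶ U, u ≫ j = ξ :=
    ⟨_, IsOpenImmersion.lift_fac j ξ hr⟩
  have h₁ : IsIso ((EtCoh.pull j).map ((EtShriek.extZeroAdj j).counit.app G)) :=
    (NatIso.isIso_map_iff (Basic.pullIsoRestr j) _).2 (isIso_restr_counit j G)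
  have h₂ : IsIso ((EtCoh.pull j ⋙ EtCoh.stalk u).map ((EtShriek.extZeroAdj j).counit.app G)) :=
    inferInstanceAs (IsIso ((EtCoh.stalk u).map _))
  exact (NatIso.isIso_map_iff (Pull.stalkPull j u) _).1 h₂

theorem isIso_counit (G : EtCoh.Ab X)
    (hzero : ∀ x : X, x ∉ Set.range j.base → IsZero ((EtCoh.stalk (Basic.geomPoint X x)).obj G)) :
    IsIso ((EtShriek.extZeroAdj j).counit.app G) := by
  refine EtSite.Stalk.isIso_of_stalks _ (EtSite.Stalk.enoughPts_pt fun x => ?_)
  by_cases hx : x ∈ Set.range j.base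
  · have := isIso_stalk_counit j (Basic.geomPoint X x) (by rwa [Basic.geomPoint_apply]) G
    exact (ConcreteCategory.isIso_iff_bijective _).1 this
  · have h₁ := isZero_stalk j (Basic.geomPoint X x) (by rwa [Basic.geomPoint_apply])
      ((EtShriek.restrAlong j).obj G)
    have h₂ := hzero x hx
    have : IsIso ((EtCoh.stalk (Basic.geomPoint X x)).map ((EtShriek.extZeroAdj j).counit.app G)) :=
      ⟨⟨h₂.to_ _, h₁.eq_of_src _ _, h₂.eq_of_src _ _⟩⟩
    exact (ConcreteCategory.isIso_iff_bijective _).1 this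

end Groth.Agent.Lib.EtJ.OpenZero
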