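import Groth.Agent.Lib.EtJ.Basic
import Groth.Agent.Lib.EtSite.Basic
import Mathlib.CategoryTheory.Sites.Point.Skyscraper
import Mathlib.CategoryTheory.Yoneda

/-!
# Stalks of extension by zero
-/

universe u

open CategoryTheory CategoryTheory.Limits AlgebraicGeometry Opposite

namespace Groth.Agent.Lib.EtJ.ExtStalk

open Groth.Agent.Lib.EtSite.Basic

variable {U X : Scheme.{u}} (j : U ⟶ X) [Etale j] [EtShriek.JCont j]
  {Ω : Type u} [Field Ω] [IsSepClosed Ω] (ξ : Spec (CommRingCat.of Ω) ⟶ X)

/-- Lifts of a geometric point. -/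
abbrev Lifts : Type u := {u : Spec (CommRingCat.of Ω) ⟶ U // u ≫ j = ξ}

variable {j ξ}

/-- A fibre point above a lift is a fibre point downstairs. -/
noncomputable def down (u : Lifts j ξ) {V : U.Etale}
    (q : (Scheme.pointSmallEtale u.1).fiber.obj V) :
    (Scheme.pointSmallEtale ξ).fiber.obj ((EtShriek.compEtale j).obj V) :=
  let l : Spec (CommRingCat.of Ω) ⟶ V.left := fiberHom (U := V) q
  mkFiber ξ _ l
    (show l ≫ V.hom ≫ j = ξ from (Category.assoc l V.hom j).symm.trans
      ((congrArg (· ≫ j) (fiberHom_comp q)).trans u.2))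

/-- The lift under a fibre point. -/
noncomputable def lift {V : U.Etale}
    (p : (Scheme.pointSmallEtale ξ).fiber.obj ((EtShriek.compEtale j).obj V)) : Lifts j ξ :=
  let l : Spec (CommRingCat.of Ω) ⟶ V.left := fiberHom (U := (EtShriek.compEtale j).obj V) p
  ⟨l ≫ V.hom, (Category.assoc _ _ _).trans (fiberHom_comp p)⟩

/-- A fibre point downstairs as one above its lift. -/
noncomputable def up {V : U.Etale}
    (p : (Scheme.pointSmallEtale ξ).fiber.obj ((EtShriek.compEtale j).obj V)) :
    (Scheme.pointSmallEtale (lift p).1).fiber.obj V :=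
  let l : Spec (CommRingCat.of Ω) ⟶ V.left := fiberHom (U := (EtShriek.compEtale j).obj V) p
  mkFiber (lift p).1 V l rfl

theorem down_up {V : U.Etale}
    (p : (Scheme.pointSmallEtale ξ).fiber.obj ((EtShriek.compEtale j).obj V)) :
    down (lift p) (up p) = p := rfl

theorem lift_down (u : Lifts j ξ) {V : U.Etale} (q : (Scheme.pointSmallEtale u.1).fiber.obj V) :
    lift (down u q) = u := Subtype.ext (fiberHom_comp q)

theorem map_down (u : Lifts j ξ) {V W : U.Etale} (g : V ⟶ W)
    (q : (Scheme.pointSmallEtale u.1).fiber.obj V) :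
    (Scheme.pointSmallEtale ξ).fiber.map ((EtShriek.compEtale j).map g) (down u q) =
      down u ((Scheme.pointSmallEtale u.1).fiber.map g q) := rfl

variable (j ξ) (F : EtCoh.Ab U)

/-- Maps into the restricted skyscraper are families of maps out of the stalks above. -/
noncomputable def skyEquiv (A : AddCommGrpCat.{u + 1}) :
    (F ⟶ (EtShriek.restrAlong j).obj ((Scheme.pointSmallEtale ξ).skyscraperSheaf A)) ≃
      ∀ u : Lifts j ξ, ((EtCoh.stalk u.1).obj F ⟶ A) where
  toFun g u := (Scheme.pointSmallEtale u.1).presheafFiberDesc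
    (fun V q => g.hom.app (op V) ≫
      Pi.π (fun _ : (Scheme.pointSmallEtale ξ).fiber.obj ((EtShriek.compEtale j).obj V) => A)
        (down u q))
    (fun V W h q => by
      rw [← map_down]
      refine (g.hom.naturality_assoc h.op _).trans ?_
      exact congrArg (g.hom.app (op W) ≫ ·) ((Pi.map'_comp_π _ _ _).trans (Category.comp_id _)))
  invFun h := ⟨{
    app := fun V => Pi.lift fun p =>
      (Scheme.pointSmallEtale (lift p).1).toPresheafFiber V.unop (up p) F.obj ≫ h (lift p)
    naturality := fun V W g => by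
      apply Pi.hom_ext
      intro p
      refine Eq.trans (Category.assoc _ _ _) ?_
      refine Eq.trans (_ ≫= Pi.lift_π _ p) ?_
      refine Eq.symm ((Category.assoc _ _ _).trans ?_)
      refine (_ ≫= (Pi.map'_comp_π _ _ p).trans (Category.comp_id _)).trans ?_
      refine (Pi.lift_π _ _).trans ?_
      have key : ∀ (u : Lifts j ξ) (q : (Scheme.pointSmallEtale u.1).fiber.obj W.unop)
          (u' : Lifts j ξ) (q' : (Scheme.pointSmallEtale u'.1).fiber.obj V.unop),
          fiberHom q' = fiberHom q ≫ g.unop.left → u' = u →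
          (Scheme.pointSmallEtale u'.1).toPresheafFiber V.unop q' F.obj ≫ h u' =
            F.obj.map g ≫ (Scheme.pointSmallEtale u.1).toPresheafFiber W.unop q F.obj ≫ h u := by
        intro u q u' q' hq hu
        subst hu
        obtain rfl : q' = (Scheme.pointSmallEtale u'.1).fiber.map g.unop q :=
          Over.OverMorphism.ext hq
        exact ((Scheme.pointSmallEtale u'.1).toPresheafFiber_w_assoc g.unop q F.obj (h u')).symm
      exact key (lift p) (up p) _ _ rfl (Subtype.ext
        ((Category.assoc _ _ _).trans (congrArg (fiberHom p ≫ ·) (MorphismProperty.Over.w g.unop)))) }⟩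
  left_inv g := by
    ext : 1
    refine NatTrans.ext (funext fun ⟨V⟩ => Pi.hom_ext _ _ fun p => ?_)
    refine (Pi.lift_π _ p).trans ?_
    exact (Scheme.pointSmallEtale (lift p).1).toPresheafFiber_presheafFiberDesc _ _ V (up p)
  right_inv h := by
    funext u
    apply (Scheme.pointSmallEtale u.1).presheafFiber_hom_ext
    intro V q
    refine ((Scheme.pointSmallEtale u.1).toPresheafFiber_presheafFiberDesc _ _ V q).trans ?_
    refine (Pi.lift_π _ (down u q)).trans ?_
    have key : ∀ (u' : Lifts j ξ) (q' : (Scheme.pointSmallEtale u'.1).fiber.obj V),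
        fiberHom q' = fiberHom q → u' = u →
        (Scheme.pointSmallEtale u'.1).toPresheafFiber V q' F.obj ≫ h u' =
          (Scheme.pointSmallEtale u.1).toPresheafFiber V q F.obj ≫ h u := by
      intro u' q' hq hu
      subst hu
      obtain rfl : q' = q := Over.OverMorphism.ext hq
      rfl
    exact key _ (up (down u q)) rfl (lift_down u q)

theorem skyEquiv_π {A : AddCommGrpCat.{u + 1}}
    (g : F ⟶ (EtShriek.restrAlong j).obj ((Scheme.pointSmallEtale ξ).skyscraperSheaf A))
    (u : Lifts j ξ) (V : U.Etale) (q : (Scheme.pointSmallEtale u.1).fiber.obj V) :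
    (Scheme.pointSmallEtale u.1).toPresheafFiber V q F.obj ≫ skyEquiv j ξ F A g u =
      g.hom.app (op V) ≫
        Pi.π (fun _ : (Scheme.pointSmallEtale ξ).fiber.obj ((EtShriek.compEtale j).obj V) => A)
          (down u q) := by
  simp only [skyEquiv, Equiv.coe_fn_mk]
  exact (Scheme.pointSmallEtale u.1).toPresheafFiber_presheafFiberDesc (A := AddCommGrpCat.{u + 1}) (P := F.obj) _ _ V q

theorem skyEquiv_naturality {A B : AddCommGrpCat.{u + 1}} (m : A ⟶ B)
    (g : F ⟶ (EtShriek.restrAlong j).obj ((Scheme.pointSmallEtale ξ).skyscraperSheaf A))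
    (u : Lifts j ξ) :
    skyEquiv j ξ F B (g ≫ (EtShriek.restrAlong j).map
      ((Scheme.pointSmallEtale ξ).skyscraperSheafFunctor.map m)) u = skyEquiv j ξ F A g u ≫ m := by
  apply (Scheme.pointSmallEtale u.1).presheafFiber_hom_ext
  intro V q
  refine (skyEquiv_π j ξ F _ u V q).trans ?_
  refine Eq.trans ?_ (Category.assoc _ _ _)
  refine Eq.trans ?_ (congrArg (· ≫ m) (skyEquiv_π j ξ F g u V q).symm)
  refine (Category.assoc _ _ _).trans ((_ ≫= Pi.map_π _ _).trans ?_)
  exact (Category.assoc _ _ _).symm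

/-- Maps out of the stalk of `j_! F`. -/
noncomputable def homEquiv (A : AddCommGrpCat.{u + 1}) :
    ((EtCoh.stalk ξ).obj ((EtShriek.extZero j).obj F) ⟶ A) ≃
      ∀ u : Lifts j ξ, ((EtCoh.stalk u.1).obj F ⟶ A) :=
  (((EtShriek.extZeroAdj j).comp
    (Scheme.pointSmallEtale ξ).skyscraperSheafAdjunction).homEquiv F A).trans (skyEquiv j ξ F A)

theorem homEquiv_naturality {A B : AddCommGrpCat.{u + 1}} (m : A ⟶ B)
    (a : (EtCoh.stalk ξ).obj ((EtShriek.extZero j).obj F) ⟶ A) (u : Lifts j ξ) :
    homEquiv j ξ F B (a ≫ m) u = homEquiv j ξ F A a u ≫ m := by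
  refine (congrArg (fun g => skyEquiv j ξ F B g u)
    (((EtShriek.extZeroAdj j).comp
      (Scheme.pointSmallEtale ξ).skyscraperSheafAdjunction).homEquiv_naturality_right a m)).trans ?_
  exact skyEquiv_naturality j ξ F m _ u

/-- The stalk of `j_! F` is the sum of the stalks above. -/
noncomputable def stalkExtZeroIso :
    (EtCoh.stalk ξ).obj ((EtShriek.extZero j).obj F) ≅
      ∐ fun u : Lifts j ξ => (EtCoh.stalk u.1).obj F where
  hom := (homEquiv j ξ F _).symm fun u => Sigma.ι (fun u : Lifts j ξ => (EtCoh.stalk u.1).obj F) u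
  inv := Sigma.desc fun u => homEquiv j ξ F _ (𝟙 _) u
  hom_inv_id := by
    apply (homEquiv j ξ F _).injective
    funext u
    rw [homEquiv_naturality, Equiv.apply_symm_apply, Sigma.ι_desc]
  inv_hom_id := by
    apply Sigma.hom_ext
    intro u
    rw [Sigma.ι_desc_assoc, ← homEquiv_naturality, Category.id_comp, Equiv.apply_symm_apply,
      Category.comp_id]

/-- The stalk vanishes away from the image. -/
theorem isZero_stalk_extZero [IsEmpty (Lifts j ξ)] :
    IsZero ((EtCoh.stalk ξ).obj ((EtShriek.extZero j).obj F)) where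
  unique_to A := ⟨⟨⟨(homEquiv j ξ F A).symm isEmptyElim⟩,
    fun a => (homEquiv j ξ F A).injective (funext isEmptyElim)⟩⟩
  unique_from A := ⟨⟨⟨0⟩, fun a => by
    have h : (𝟙 ((EtCoh.stalk ξ).obj ((EtShriek.extZero j).obj F))) = 0 :=
      (homEquiv j ξ F _).injective (funext isEmptyElim)
    rw [← Category.comp_id a, h, comp_zero]
    rfl⟩⟩

end Groth.Agent.Lib.EtJ.ExtStalk
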