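import Groth.Agent.Lib.EtJ.Coh
import Mathlib.AlgebraicGeometry.Limits
import Mathlib.CategoryTheory.Adjunction.Whiskering
import Mathlib.CategoryTheory.Sites.Limits
import Mathlib.Algebra.Category.Grp.Adjunctions

/-!
# Doubling an etale scheme along an open subscheme; restriction of injective sheaves
-/

universe u

open CategoryTheory CategoryTheory.Limits AlgebraicGeometry Opposite

namespace Groth.Agent.Lib.EtJ.Double

variable {X : Scheme.{u}}

/-- Injective abelian sheaves have surjective restriction along monomorphisms. -/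
theorem map_surjective_of_injective (I : EtCoh.Ab X) [Injective I] {U V : X.Etale} (g : V ⟶ U)
    [Mono g] : Function.Surjective (I.obj.map g.op) := by
  intro s
  have : Injective I.obj :=
    Injective.injective_of_adjoint
      (sheafificationAdjunction X.smallEtaleTopology AddCommGrpCat.{u + 1}) I
  let adj := (AddCommGrpCat.adj.{u + 1}).whiskerRight X.Etaleᵒᵖ
  let L : (X.Etaleᵒᵖ ⥤ Type (u + 1)) ⥤ X.Etaleᵒᵖ ⥤ AddCommGrpCat.{u + 1} :=
    (Functor.whiskeringRight _ _ _).obj AddCommGrpCat.free.{u + 1}
  let m := L.map (uliftYoneda.{u + 1}.map g)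
  have : Mono m := by
    have : ∀ W, Mono (m.app W) := fun W => by
      have : Mono ((uliftYoneda.{u + 1}.map g).app W) := inferInstance
      exact AddCommGrpCat.free.map_mono _
    exact NatTrans.mono_of_mono_app _
  let t : L.obj (uliftYoneda.{u + 1}.obj V) ⟶ I.obj :=
    (adj.homEquiv _ _).symm (uliftYonedaEquiv.symm s)
  refine ⟨uliftYonedaEquiv (adj.homEquiv _ _ (Injective.factorThru t m : _ ⟶ I.obj)), ?_⟩
  have h := congrArg (adj.homEquiv _ _) (Injective.comp_factorThru t m)
  rw [adj.homEquiv_naturality_left, Equiv.apply_symm_apply] at h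
  have h' := congrArg uliftYonedaEquiv h
  rw [Equiv.apply_symm_apply] at h'
  rw [← h']
  exact uliftYonedaEquiv_naturality (F := I.obj ⋙ forget AddCommGrpCat.{u + 1}) _ g.op

variable {U V : X.Etale} (g : V ⟶ U) [IsOpenImmersion g.left]

/-- The doubled scheme. -/
noncomputable def scheme : Scheme.{u} := pushout g.left g.left

/-- The structure map of the doubled scheme. -/
noncomputable def toBase : scheme g ⟶ X := pushout.desc U.hom U.hom rfl

instance etale_toBase : Etale (toBase g) := by
  refine IsZariskiLocalAtSource.of_openCover (P := EtCoh.etaleMP)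
    (Scheme.IsLocallyDirected.openCover (span g.left g.left)) fun i => ?_
  have hl : Etale (pushout.inl g.left g.left ≫ toBase g) := by
    rw [toBase, pushout.inl_desc]; exact U.prop
  have hr : Etale (pushout.inr g.left g.left ≫ toBase g) := by
    rw [toBase, pushout.inr_desc]; exact U.prop
  rcases i with _ | (_ | _)
  · have e : colimit.ι (span g.left g.left) WalkingSpan.zero =
        g.left ≫ pushout.inl g.left g.left :=
      (colimit.w (span g.left g.left) WalkingSpan.Hom.fst).symm
    change Etale (colimit.ι (span g.left g.left) WalkingSpan.zero ≫ toBase g)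
    have eq : colimit.ι (span g.left g.left) WalkingSpan.zero ≫ toBase g = V.hom := by
      refine (congrArg (· ≫ toBase g) e).trans ((Category.assoc _ _ _).trans ?_)
      exact (congrArg (g.left ≫ ·) (pushout.inl_desc _ _ _)).trans (MorphismProperty.Over.w g)
    exact eq.symm ▸ V.prop
  · exact hl
  · exact hr

/-- The double of `U` along `V` in the small etale site. -/
noncomputable def obj : X.Etale := Scheme.Etale.mk (toBase g)

/-- First copy. -/
noncomputable def inl : U ⟶ obj g :=
  MorphismProperty.Over.homMk (pushout.inl g.left g.left) (pushout.inl_desc _ _ _)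

/-- Second copy. -/
noncomputable def inr : U ⟶ obj g :=
  MorphismProperty.Over.homMk (pushout.inr g.left g.left) (pushout.inr_desc _ _ _)

theorem condition : g ≫ inl g = g ≫ inr g :=
  MorphismProperty.Over.Hom.ext pushout.condition

theorem exists_of_eq {x y : U.left} (h : (inl g).left x = (inr g).left y) :
    ∃ v, g.left v = x ∧ g.left v = y := by
  obtain ⟨k, fi, fj, z, hx, hy⟩ :=
    (Scheme.IsLocallyDirected.ι_eq_ι_iff (span g.left g.left) (i := WalkingSpan.left)
      (j := WalkingSpan.right)).1 h
  rcases k with _ | (_ | _)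
  · exact ⟨z, by rcases fi with _ | _; exact hx, by rcases fj with _ | _; exact hy⟩
  · rcases fj
  · rcases fi

/-- Sections glue on the double. -/
theorem glue (Q : EtCoh.Ab X) (a b : EtCoh.sect Q U) (hab : Q.obj.map g.op a = Q.obj.map g.op b) :
    ∃ c : EtCoh.sect Q (obj g), Q.obj.map (inl g).op c = a ∧ Q.obj.map (inr g).op c = b := by
  have hcov : Sieve.ofArrows (fun _ : Bool => U) (fun t => cond t (inl g) (inr g)) ∈
      X.smallEtaleTopology (obj g) := by
    change Sieve.generate _ ∈ _
    rw [Scheme.ofArrows_mem_smallEtaleTopology_iff]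
    refine Set.eq_univ_of_forall fun x => Set.mem_iUnion.2 ?_
    obtain ⟨i, z, hz⟩ := Scheme.IsLocallyDirected.ι_jointly_surjective (span g.left g.left) x
    rcases i with _ | (_ | _)
    · refine ⟨true, g.left z, ?_⟩
      have e : colimit.ι (span g.left g.left) WalkingSpan.zero =
        g.left ≫ pushout.inl g.left g.left :=
          (colimit.w (span g.left g.left) WalkingSpan.Hom.fst).symm
      rw [← hz]
      exact (congrArg (fun m : V.left ⟶ scheme g => m z) e).symm
    · exact ⟨true, z, hz⟩
    · exact ⟨false, z, hz⟩
  have hQ : Presieve.IsSheaf X.smallEtaleTopology (Q.obj ⋙ forget AddCommGrpCat.{u + 1}) :=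
    (isSheaf_iff_isSheaf_of_type _ _).1
      ((sheafCompose X.smallEtaleTopology (forget AddCommGrpCat.{u + 1})).obj Q).property
  have hsf := hQ _ hcov
  rw [Sieve.ofArrows, ← Presieve.isSheafFor_iff_generate, Presieve.isSheafFor_arrows_iff] at hsf
  have cross : ∀ (Z : X.Etale) (p q : Z ⟶ U), p ≫ inl g = q ≫ inr g →
      Q.obj.map p.op a = Q.obj.map q.op b := by
    intro Z p q h
    have hr : Set.range p.left ⊆ Set.range g.left := by
      rintro _ ⟨z, rfl⟩
      obtain ⟨v, hv, -⟩ := exists_of_eq g (x := p.left z) (y := q.left z)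
        (congrArg (fun m : Z.left ⟶ scheme g => m z) (congrArg (fun k => k.left) h))
      exact ⟨v, hv⟩
    let r : Z ⟶ V := MorphismProperty.Over.homMk (IsOpenImmersion.lift g.left p.left hr) (by
      rw [← MorphismProperty.Over.w g, IsOpenImmersion.lift_fac_assoc, MorphismProperty.Over.w p])
    have hrp : r ≫ g = p := MorphismProperty.Over.Hom.ext (IsOpenImmersion.lift_fac _ _ _)
    have hq : r ≫ g = q := MorphismProperty.Over.Hom.ext (by
      rw [← cancel_mono (pushout.inr g.left g.left)]
      have key : (r ≫ g) ≫ inr g = q ≫ inr g := by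
        rw [Category.assoc, ← condition g, ← Category.assoc, hrp, h]
      exact congrArg (fun k => k.left) key)
    rw [← hrp, ← hq]
    simp only [op_comp, Functor.map_comp, ConcreteCategory.comp_apply]
    exact congrArg _ hab
  have monoL : Mono (inl g) := by
    refine ⟨fun p q h => MorphismProperty.Over.Hom.ext ?_⟩
    rw [← cancel_mono (pushout.inl g.left g.left)]
    exact congrArg (fun k => k.left) h
  have monoR : Mono (inr g) := by
    refine ⟨fun p q h => MorphismProperty.Over.Hom.ext ?_⟩
    rw [← cancel_mono (pushout.inr g.left g.left)]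
    exact congrArg (fun k => k.left) h
  obtain ⟨c, hc, -⟩ := hsf (fun t => Bool.rec b a t) (by
    rintro (_ | _) (_ | _) Z _ _ h
    · obtain rfl := (cancel_mono (inr g)).1 h; rfl
    · exact (cross Z _ _ h.symm).symm
    · exact cross Z _ _ h
    · obtain rfl := (cancel_mono (inl g)).1 h; rfl)
  exact ⟨c, hc true, hc false⟩

theorem mono_of_isOpenImmersion : Mono g :=
  ⟨fun p q h => MorphismProperty.Over.Hom.ext
    ((cancel_mono g.left).1 (congrArg (fun k => k.left) h))⟩

theorem flasque_map_surjective {F : EtCoh.Ab X} (hF : Coh.IsFlasque F) :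
    Function.Surjective (F.obj.map g.op) :=
  haveI := mono_of_isOpenImmersion g
  Coh.IsFlasque.map_surjective hF g (fun I _ => map_surjective_of_injective I g) (obj g) (inl g)
    (inr g) (condition g) (glue g)

end Groth.Agent.Lib.EtJ.Double
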