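import Groth.Agent.Lib.EtJ.ExtNat
import Groth.Agent.Lib.EtJ.ExtAdj
import Mathlib.Algebra.Homology.DerivedCategory.Ext.ExactSequences
import Mathlib.CategoryTheory.Abelian.Basic

/-!
# The algebra of Mayer-Vietoris sequences
-/

universe w w' w'' v v' v'' u u' u''

namespace Groth.Agent.Lib.EtJ.MVAlg

open CategoryTheory CategoryTheory.Limits CategoryTheory.Abelian

section Transport

variable {C : Type u} [Category.{v} C] [Abelian C] {D : Type u'} [Category.{v'} D] [Abelian D]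
  {E : Type u''} [Category.{v''} E] [Abelian E]
  [HasExt.{w} C] [HasExt.{w'} D] [HasExt.{w''} E] [EnoughInjectives C]
  (F : C ⥤ D) [F.Additive] [PreservesFiniteLimits F] [PreservesFiniteColimits F]
  (G : C ⥤ E) [G.Additive] [PreservesFiniteLimits G] [PreservesFiniteColimits G]
  (K : D ⥤ E) [K.Additive] [PreservesFiniteLimits K] [PreservesFiniteColimits K]
  [(F ⋙ K).Additive] [PreservesFiniteLimits (F ⋙ K)] [PreservesFiniteColimits (F ⋙ K)]

omit [EnoughInjectives C] in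
theorem extTr_mk₀_comp {Z₀ : D} {A B : C} (η : Z₀ ⟶ F.obj A) (ε : A ⟶ B) {Y : C} {n : ℕ}
    (e : Ext.{w} B Y n) :
    ExtAdj.extTr F η Y n ((Ext.mk₀ ε).comp e (zero_add n)) =
      (Ext.mk₀ (η ≫ F.map ε)).comp (e.mapExactFunctor F) (zero_add n) := by
  simp only [ExtAdj.extTr, AddMonoidHom.mk'_apply, Ext.mapExactFunctor_comp,
    Ext.mapExactFunctor_mk₀]
  rw [← Ext.comp_assoc_of_second_deg_zero, Ext.mk₀_comp_mk₀]

/-- Functoriality of transported classes along `F ⋙ K ⟶ G`. -/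
theorem via_eq (α : F ⋙ K ⟶ G) {Z : D} {Z' : E} (c : Z' ⟶ K.obj Z) {A A' : C}
    (η : Z ⟶ F.obj A) (η' : Z' ⟶ G.obj A') (ι : A' ⟶ A)
    (hι : η' ≫ G.map ι = c ≫ K.map η ≫ α.app A) {Y : C} {n : ℕ} (e : Ext.{w} A Y n) :
    ((Ext.mk₀ c).comp ((ExtAdj.extTr F η Y n e).mapExactFunctor K) (zero_add n)).comp
        (Ext.mk₀ (α.app Y)) (add_zero n) =
      ExtAdj.extTr G η' Y n ((Ext.mk₀ ι).comp e (zero_add n)) := by
  rw [extTr_mk₀_comp, hι]
  simp only [ExtAdj.extTr, AddMonoidHom.mk'_apply, Ext.mapExactFunctor_comp,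
    Ext.mapExactFunctor_mk₀]
  rw [← ExtNat.mapExact_comp]
  rw [Ext.comp_assoc_of_third_deg_zero, Ext.comp_assoc_of_third_deg_zero]
  rw [ExtNat.mapExact_natural (F ⋙ K) G α e]
  rw [← Ext.comp_assoc_of_second_deg_zero (Ext.mk₀ (K.map η)), Ext.mk₀_comp_mk₀,
    ← Ext.comp_assoc_of_second_deg_zero (Ext.mk₀ c), Ext.mk₀_comp_mk₀]

end Transport

section Sequence

variable {C : Type u} [Category.{v} C] [Abelian C] [HasExt.{w} C]
  {XW XU XV X₃ : C} (f : XW ⟶ XU) (f' : XW ⟶ XV) (g : XU ⟶ X₃) (g' : XV ⟶ X₃)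
  (h : f ≫ g = f' ≫ g')

/-- The complex of a Mayer-Vietoris square. -/
noncomputable abbrev complex : ShortComplex C :=
  ShortComplex.mk (biprod.lift f (-f')) (biprod.desc g g')
    (by simp [biprod.lift_desc, h])

variable {f f' g g'} (hS : (complex f f' g g' h).ShortExact) (Y : C)
  (HU HV HW : ℕ → Type w) [∀ n, AddCommGroup (HU n)] [∀ n, AddCommGroup (HV n)]
  [∀ n, AddCommGroup (HW n)]
  (ΦU : ∀ n, Ext.{w} XU Y n ≃+ HU n) (ΦV : ∀ n, Ext.{w} XV Y n ≃+ HV n)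
  (ΦW : ∀ n, Ext.{w} XW Y n ≃+ HW n)
  (rU : ∀ n, Ext.{w} X₃ Y n →+ HU n) (rV : ∀ n, Ext.{w} X₃ Y n →+ HV n)
  (dU : ∀ n, HU n →+ HW n) (dV : ∀ n, HV n →+ HW n)
  (hrU : ∀ n e, rU n e = ΦU n ((Ext.mk₀ g).comp e (zero_add n)))
  (hrV : ∀ n e, rV n e = ΦV n ((Ext.mk₀ g').comp e (zero_add n)))
  (hdU : ∀ n e, dU n (ΦU n e) = ΦW n ((Ext.mk₀ f).comp e (zero_add n)))
  (hdV : ∀ n e, dV n (ΦV n e) = ΦW n ((Ext.mk₀ f').comp e (zero_add n)))

include hS hrU hrV hdU hdV in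
theorem exists_delta :
    ∃ δ : ∀ n : ℕ, HW n →+ Ext.{w} X₃ Y (n + 1),
      (AddMonoidHom.prod (rU 0) (rV 0)).ker = ⊥ ∧
      (∀ n, (AddMonoidHom.prod (rU (n + 1)) (rV (n + 1))).ker = (δ n).range) ∧
      (∀ n, ((dU n).comp (AddMonoidHom.fst _ _) - (dV n).comp (AddMonoidHom.snd _ _)).ker =
        (AddMonoidHom.prod (rU n) (rV n)).range) ∧
      (∀ n, (δ n).ker =
        ((dU n).comp (AddMonoidHom.fst _ _) - (dV n).comp (AddMonoidHom.snd _ _)).range) := by
  let split : ∀ n, Ext.{w} (XU ⊞ XV) Y n → HU n × HV n := fun n e =>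
    (ΦU n ((Ext.mk₀ biprod.inl).comp e (zero_add n)),
      ΦV n ((Ext.mk₀ biprod.inr).comp e (zero_add n)))
  let d : ∀ n, HU n × HV n →+ HW n := fun n =>
    (dU n).comp (AddMonoidHom.fst _ _) - (dV n).comp (AddMonoidHom.snd _ _)
  let S := complex f f' g g' h
  have hsplit : ∀ n (a : HU n) (b : HV n), ∃ e, split n e = (a, b) := fun n a b => by
    refine ⟨(Ext.mk₀ biprod.fst).comp ((ΦU n).symm a) (zero_add n) +
      (Ext.mk₀ biprod.snd).comp ((ΦV n).symm b) (zero_add n), ?_⟩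
    simp [split]
  have hinj : ∀ n e, split n e = 0 → e = 0 := fun n e he => by
    simp only [split, Prod.mk_eq_zero, AddEquiv.map_eq_zero_iff] at he
    have : e = (Ext.mk₀ biprod.fst).comp ((Ext.mk₀ biprod.inl).comp e (zero_add n)) (zero_add n) +
        (Ext.mk₀ biprod.snd).comp ((Ext.mk₀ biprod.inr).comp e (zero_add n)) (zero_add n) := by
      rw [← Ext.comp_assoc_of_second_deg_zero, ← Ext.comp_assoc_of_second_deg_zero,
        Ext.mk₀_comp_mk₀, Ext.mk₀_comp_mk₀, ← Ext.add_comp, ← Ext.mk₀_add, biprod.total,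
        Ext.mk₀_id_comp]
    rw [this, he.1, he.2, Ext.comp_zero, Ext.comp_zero, add_zero]
  have hr : ∀ n e, (rU n e, rV n e) = split n ((Ext.mk₀ S.g).comp e (zero_add n)) := fun n e => by
    simp [split, S, hrU, hrV]
  have hd : ∀ n e, d n (split n e) = ΦW n ((Ext.mk₀ S.f).comp e (zero_add n)) := fun n e => by
    have hf : biprod.lift f (-f') = f ≫ biprod.inl - f' ≫ biprod.inr := by
      apply biprod.hom_ext <;> simp
    change dU n (ΦU n _) - dV n (ΦV n _) = _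
    simp only [S, hdU, hdV, hf, sub_eq_add_neg, Ext.mk₀_add,
      Ext.mk₀_neg, Ext.add_comp, Ext.neg_comp, map_add, map_neg,
      ← Ext.comp_assoc_of_second_deg_zero, Ext.mk₀_comp_mk₀]
  let δ : ∀ n, HW n →+ Ext.{w} X₃ Y (n + 1) := fun n =>
    (hS.extClass.precomp Y (add_comm 1 n)).comp (ΦW n).symm.toAddMonoidHom
  have hδ : ∀ n e, δ n (ΦW n e) = hS.extClass.comp e (add_comm 1 n) := fun n e => by
    simp [δ]
  refine ⟨δ, ?_, ?_, ?_, ?_⟩
  · refine (AddSubgroup.eq_bot_iff_forall _).2 fun e he => ?_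
    have : Epi S.g := hS.epi_g
    refine Ext.precomp_mk₀_injective_of_epi Y S.g ?_
    change (Ext.mk₀ S.g).comp e (zero_add 0) = (Ext.mk₀ S.g).comp 0 (zero_add 0)
    rw [Ext.comp_zero]
    exact hinj _ _ ((hr 0 e).symm.trans he)
  · intro n
    ext e
    constructor
    · intro he
      obtain ⟨x, hx⟩ := Ext.contravariant_sequence_exact₃ hS Y e
        (hinj _ _ ((hr _ e).symm.trans he)) (add_comm 1 n)
      exact ⟨ΦW n x, (hδ n x).trans hx⟩
    · rintro ⟨a, rfl⟩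
      obtain ⟨x, rfl⟩ := (ΦW n).surjective a
      refine (hr _ _).trans ?_
      rw [hδ, hS.comp_extClass_assoc]
      simp [split]
  · intro n
    ext ⟨a, b⟩
    obtain ⟨x, hx⟩ := hsplit n a b
    constructor
    · intro hab
      rw [← hx] at hab ⊢
      have hz : ΦW n ((Ext.mk₀ S.f).comp x (zero_add n)) = 0 := (hd n x).symm.trans hab
      obtain ⟨y, rfl⟩ := Ext.contravariant_sequence_exact₂ hS Y x
        ((AddEquiv.map_eq_zero_iff _).1 hz)
      exact ⟨y, hr n y⟩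
    · rintro ⟨y, hy⟩
      rw [← hy]
      refine (congrArg (d n) (hr n y)).trans ((hd n _).trans ?_)
      rw [← Ext.comp_assoc_of_second_deg_zero, Ext.mk₀_comp_mk₀, S.zero]
      simp
  · intro n
    ext a
    obtain ⟨x, rfl⟩ := (ΦW n).surjective a
    constructor
    · intro ha
      obtain ⟨y, hy⟩ := Ext.contravariant_sequence_exact₁ hS Y x (add_comm 1 n)
        ((hδ n x).symm.trans ha)
      exact ⟨split n y, (hd n y).trans (by rw [hy])⟩
    · rintro ⟨⟨a, b⟩, hab⟩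
      obtain ⟨y, hy⟩ := hsplit n a b
      rw [← hy] at hab
      have : (Ext.mk₀ S.f).comp y (zero_add n) = x := (ΦW n).injective ((hd n y).symm.trans hab)
      change δ n (ΦW n x) = 0
      rw [hδ, ← this, hS.extClass_comp_assoc]

end Sequence

end Groth.Agent.Lib.EtJ.MVAlg
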