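import Groth.Agent.Lib.EtJ.PullSec
import Groth.Agent.Lib.EtJ.MVAlg
import Groth.Agent.Lib.EtJ.ExtZero
import Groth.Agent.Lib.EtJ.PullExact
import Groth.Agent.Lib.EtJ.Double
import Groth.Agent.Lib.EtSite.Basic

/-!
# Mayer-Vietoris for two open immersions on the small etale site
-/

universe u

open CategoryTheory CategoryTheory.Limits CategoryTheory.Abelian AlgebraicGeometry Opposite

namespace Groth.Agent.Lib.EtJ.MayerVietoris

section Open

variable {X U : Scheme.{u}} (j : U ⟶ X) [IsOpenImmersion j]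

/-- `U` as an object of the small etale site. -/
noncomputable abbrev obj : X.Etale := Scheme.Etale.mk j

/-- `j_!` is left adjoint to `j⁻¹`. -/
noncomputable def adjP : EtShriek.extZero j ⊣ EtCoh.pull j :=
  (EtShriek.extZeroAdj j).ofNatIsoRight (Basic.pullIsoRestr j).symm

/-- The sheaf corepresenting sections over `U`. -/
noncomputable def free : EtCoh.Ab X := (EtShriek.extZero j).obj (EtCoh.const U ℤ)

/-- Maps out of `free j`. -/
noncomputable def hom (G : EtCoh.Ab X) :
    (free j ⟶ G) ≃ (EtCoh.const U ℤ ⟶ (EtCoh.pull j).obj G) :=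
  (adjP j).homEquiv (EtCoh.const U ℤ) G

/-- The universal section of `free j`. -/
noncomputable def unit : EtCoh.const U ℤ ⟶ (EtCoh.pull j).obj (free j) :=
  (adjP j).unit.app (EtCoh.const U ℤ)

theorem hom_eq {G : EtCoh.Ab X} (a : free j ⟶ G) :
    hom j G a = unit j ≫ (EtCoh.pull j).map a :=
  (adjP j).homEquiv_unit _ _ a

theorem hom_comp {G G' : EtCoh.Ab X} (a : free j ⟶ G) (m : G ⟶ G') :
    hom j G' (a ≫ m) = hom j G a ≫ (EtCoh.pull j).map m :=
  (adjP j).homEquiv_naturality_right a m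

/-- `free j ⟶ G` is the set of sections of `G` over `U`. -/
noncomputable def ev (G : EtCoh.Ab X) : (free j ⟶ G) ≃ EtCoh.sect G (obj j) :=
  ((hom j G).trans (PullSec.elem U _).toEquiv).trans
    (Equiv.ofBijective _ (PullSec.pullSec_bijective j G)).symm

theorem pullSec_ev {G : EtCoh.Ab X} (a : free j ⟶ G) :
    PullSec.pullSec j (obj j) (PullSec.bcIsTerminal j j (𝟙 U) (Category.id_comp j)) G (ev j G a) =
      PullSec.elem U _ (hom j G a) :=
  (Equiv.ofBijective _ (PullSec.pullSec_bijective j G)).apply_symm_apply _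

/-- The map `free j ⟶ ℤ`. -/
noncomputable def aug : free j ⟶ EtCoh.const X ℤ :=
  (hom j _).symm (EtCore.pullConst j ℤ).inv

theorem hom_aug : hom j _ (aug j) = (EtCore.pullConst j ℤ).inv := Equiv.apply_symm_apply _ _

theorem ev_aug {G : EtCoh.Ab X} (φ : EtCoh.const X ℤ ⟶ G) :
    ev j G (aug j ≫ φ) =
      G.obj.map ((EtCore.topIsTerminal X).from (obj j)).op (PullSec.elem X G φ) := by
  refine (PullSec.pullSec_bijective j G).1 ?_
  rw [pullSec_ev, hom_comp, hom_aug, PullSec.elem_pull,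
    PullSec.pullSec_map j (EtCoh.top X) (EtCore.bcTopIsTerminal j) G
      ((EtCore.topIsTerminal X).from (obj j))]

variable {W : Scheme.{u}} (jW : W ⟶ X) [IsOpenImmersion jW] (k : W ⟶ U) (hk : k ≫ j = jW)
  [PreservesFiniteLimits (EtCoh.pull k)]

/-- The inclusion `jW ⊆ j` on the site. -/
noncomputable def incl : obj jW ⟶ obj j := MorphismProperty.Over.homMk k hk

/-- The map `free jW ⟶ free j`. -/
noncomputable def res : free jW ⟶ free j :=
  (hom jW _).symm ((EtCore.pullConst k ℤ).inv ≫ (EtCoh.pull k).map (unit j) ≫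
    (((EtCore.pullComp k j).symm ≪≫ EtCore.pullCongr hk).app (free j)).hom)

omit [PreservesFiniteLimits (EtCoh.pull k)] in
theorem hom_res {G : EtCoh.Ab X} (a : free j ⟶ G) :
    hom jW G (res j jW k hk ≫ a) = ((EtCore.pullConst k ℤ).inv ≫ (EtCoh.pull k).map (hom j G a)) ≫
      (((EtCore.pullComp k j).symm ≪≫ EtCore.pullCongr hk).app G).hom := by
  rw [hom_comp, res, Equiv.apply_symm_apply, hom_eq, Functor.map_comp]
  simp only [Category.assoc]
  congr 2
  exact (((EtCore.pullComp k j).symm ≪≫ EtCore.pullCongr hk).hom.naturality a).symm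

omit [PreservesFiniteLimits (EtCoh.pull k)] in
theorem ev_res {G : EtCoh.Ab X} (a : free j ⟶ G) :
    ev jW G (res j jW k hk ≫ a) = G.obj.map (incl j jW k hk).op (ev j G a) := by
  refine (PullSec.pullSec_bijective jW G).1 ?_
  rw [pullSec_ev, hom_res, PullSec.elem_comp, PullSec.elem_pull, ← pullSec_ev,
    PullSec.pullComp_pullSec k j jW hk (obj j)
      (PullSec.bcIsTerminal j j (𝟙 U) (Category.id_comp j)) (PullSec.bcIsTerminal j jW k hk),
    PullSec.pullSec_map jW (obj j) (PullSec.bcIsTerminal j jW k hk) G (incl j jW k hk)]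

/-- Cohomology of the restriction as `Ext` on `X`. -/
noncomputable def Φ (G : EtCoh.Ab X) (n : ℕ) :
    Ext.{u + 1} (free j) G n ≃+ EtCoh.H U ((EtCoh.pull j).obj G) n :=
  ExtAdj.extTrEquiv (EtCoh.pull j) (unit j)
    (fun Y => by
      exact (funext fun f : free j ⟶ Y => (hom_eq j f)) ▸ (hom j Y).bijective) G n

theorem Hpull_eq (G : EtCoh.Ab X) (n : ℕ) (e : EtCoh.H X G n) :
    EtCore.Hpull j G n e = Φ j G n ((Ext.mk₀ (aug j)).comp e (zero_add n)) := by
  refine Eq.trans ?_ (MVAlg.extTr_mk₀_comp (EtCoh.pull j) (unit j) (aug j) e).symm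
  rw [← hom_eq, hom_aug]
  rfl

theorem HpullVia_eq (G : EtCoh.Ab X) (n : ℕ) (e : Ext.{u + 1} (free j) G n) :
    EtCore.HpullVia k j jW hk G n (Φ j G n e) =
      Φ jW G n ((Ext.mk₀ (res j jW k hk)).comp e (zero_add n)) := by
  have hι : unit jW ≫ (EtCoh.pull jW).map (res j jW k hk) =
      (EtCore.pullConst k ℤ).inv ≫ (EtCoh.pull k).map (unit j) ≫
        ((EtCore.pullComp k j).symm ≪≫ EtCore.pullCongr hk).hom.app (free j) := by
    rw [← hom_eq, res, Equiv.apply_symm_apply]
    rfl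
  exact MVAlg.via_eq (EtCoh.pull j) (EtCoh.pull jW) (EtCoh.pull k)
    ((EtCore.pullComp k j).symm ≪≫ EtCore.pullCongr hk).hom (EtCore.pullConst k ℤ).inv (unit j)
    (unit jW) (res j jW k hk) hι e

end Open

section Square

variable {X U V W : Scheme.{u}} (jU : U ⟶ X) (jV : V ⟶ X) (jW : W ⟶ X)
  [IsOpenImmersion jU] [IsOpenImmersion jV] [IsOpenImmersion jW]
  (kU : W ⟶ U) (kV : W ⟶ V) (hU : kU ≫ jU = jW) (hV : kV ≫ jV = jW)
  (hcov : ∀ x : X, x ∈ Set.range jU.base ∨ x ∈ Set.range jV.base)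
  (hint : Set.range jU.base ∩ Set.range jV.base ⊆ Set.range jW.base)

theorem res_aug : res jU jW kU hU ≫ aug jU = res jV jW kV hV ≫ aug jV := by
  apply (ev jW _).injective
  rw [ev_res, ev_res]
  have h₁ := ev_aug jU (𝟙 (EtCoh.const X ℤ))
  have h₂ := ev_aug jV (𝟙 (EtCoh.const X ℤ))
  rw [Category.comp_id] at h₁ h₂
  rw [h₁, h₂, ← ConcreteCategory.comp_apply, ← ConcreteCategory.comp_apply, ← Functor.map_comp,
    ← Functor.map_comp, ← op_comp, ← op_comp]
  exact congrArg (fun m => (EtCoh.const X ℤ).obj.map m.op _) ((EtCore.topIsTerminal X).hom_ext _ _)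

include hcov hint in
theorem glue (G : EtCoh.Ab X) (a : EtCoh.sect G (obj jU)) (b : EtCoh.sect G (obj jV))
    (hab : G.obj.map (incl jU jW kU hU).op a = G.obj.map (incl jV jW kV hV).op b) :
    ∃! c : EtCoh.sect G (EtCoh.top X),
      G.obj.map ((EtCore.topIsTerminal X).from (obj jU)).op c = a ∧
        G.obj.map ((EtCore.topIsTerminal X).from (obj jV)).op c = b := by
  let Z : Bool → X.Etale := fun t => cond t (obj jU) (obj jV)
  let π : ∀ t, Z t ⟶ EtCoh.top X := fun t => (EtCore.topIsTerminal X).from (Z t)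
  have hc : Sieve.ofArrows Z π ∈ X.smallEtaleTopology (EtCoh.top X) := by
    refine EtSite.Basic.ofArrows_mem Z π fun x => ?_
    have ht : ∀ (T : X.Etale) (g : T ⟶ EtCoh.top X) (v : T.left), g.left.base v = T.hom.base v := by
      intro T g v
      conv_rhs => rw [← MorphismProperty.Over.w g]
      rfl
    rcases hcov x with ⟨y, hy⟩ | ⟨y, hy⟩
    · exact ⟨true, y, Eq.trans (ht (obj jU) (π true) y) hy⟩
    · exact ⟨false, y, Eq.trans (ht (obj jV) (π false) y) hy⟩
  have hG : Presieve.IsSheaf X.smallEtaleTopology (G.obj ⋙ forget AddCommGrpCat.{u + 1}) :=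
    (isSheaf_iff_isSheaf_of_type _ _).1
      ((sheafCompose X.smallEtaleTopology (forget AddCommGrpCat.{u + 1})).obj G).property
  have hsf := hG _ hc
  rw [Sieve.ofArrows, ← Presieve.isSheafFor_iff_generate, Presieve.isSheafFor_arrows_iff] at hsf
  have cross : ∀ (T : X.Etale) (p : T ⟶ obj jU) (q : T ⟶ obj jV),
      G.obj.map p.op a = G.obj.map q.op b := by
    intro T p q
    have hp : ∀ v, T.hom.base v ∈ Set.range jU.base := fun v =>
      ⟨p.left.base v, by rw [← MorphismProperty.Over.w p]; rfl⟩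
    have hq : ∀ v, T.hom.base v ∈ Set.range jV.base := fun v =>
      ⟨q.left.base v, by rw [← MorphismProperty.Over.w q]; rfl⟩
    have hr : Set.range T.hom.base ⊆ Set.range jW.base := by
      rintro _ ⟨v, rfl⟩
      exact hint ⟨hp v, hq v⟩
    let l : T.left ⟶ W := IsOpenImmersion.lift jW T.hom hr
    have hl : l ≫ jW = T.hom := IsOpenImmersion.lift_fac _ _ _
    let r : T ⟶ obj jW := MorphismProperty.Over.homMk l hl
    have h₁ : p = r ≫ incl jU jW kU hU := (PullSec.subsingleton_hom_mk jU T).elim _ _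
    have h₂ : q = r ≫ incl jV jW kV hV := (PullSec.subsingleton_hom_mk jV T).elim _ _
    rw [h₁, h₂, op_comp, op_comp, Functor.map_comp, Functor.map_comp, ConcreteCategory.comp_apply,
      ConcreteCategory.comp_apply, hab]
  let s : ∀ t, (G.obj ⋙ forget AddCommGrpCat.{u + 1}).obj (op (Z t)) := fun t =>
    match t with
    | true => a
    | false => b
  have hs : Presieve.Arrows.Compatible _ π s := by
    intro i k T gi gk _
    cases i <;> cases k
    · obtain rfl : gi = gk := (PullSec.subsingleton_hom_mk jV T).elim _ _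
      rfl
    · exact (cross T gk gi).symm
    · exact cross T gi gk
    · obtain rfl : gi = gk := (PullSec.subsingleton_hom_mk jU T).elim _ _
      rfl
  obtain ⟨c, hc₁, hc₂⟩ := hsf s hs
  refine ⟨c, ⟨hc₁ true, hc₁ false⟩, fun c' hc' => hc₂ c' fun t => ?_⟩
  cases t
  · exact hc'.2
  · exact hc'.1

include hcov hint in
theorem shortExact : (MVAlg.complex (res jU jW kU hU) (res jV jW kV hV) (aug jU) (aug jV)
    (res_aug jU jV jW kU kV hU hV)).ShortExact := by
  have key : ∀ {G : EtCoh.Ab X} (a : free jU ⟶ G) (b : free jV ⟶ G),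
      res jU jW kU hU ≫ a = res jV jW kV hV ≫ b →
      ∃! φ : EtCoh.const X ℤ ⟶ G, aug jU ≫ φ = a ∧ aug jV ≫ φ = b := by
    intro G a b h
    have hab := congrArg (ev jW G) h
    rw [ev_res, ev_res] at hab
    obtain ⟨c, hc, hu⟩ := glue jU jV jW kU kV hU hV hcov hint G _ _ hab
    refine ⟨(PullSec.elem X G).symm c, ⟨(ev jU G).injective ?_, (ev jV G).injective ?_⟩, ?_⟩
    · rw [ev_aug, AddEquiv.apply_symm_apply]; exact hc.1
    · rw [ev_aug, AddEquiv.apply_symm_apply]; exact hc.2
    · intro φ hφ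
      apply (PullSec.elem X G).injective
      rw [AddEquiv.apply_symm_apply]
      exact hu _ ⟨(ev_aug jU φ).symm.trans (congrArg _ hφ.1),
        (ev_aug jV φ).symm.trans (congrArg _ hφ.2)⟩
  let S := MVAlg.complex (res jU jW kU hU) (res jV jW kV hV) (aug jU) (aug jV)
    (res_aug jU jV jW kU kV hU hV)
  have comp_zero : ∀ {G : EtCoh.Ab X} (k : free jU ⊞ free jV ⟶ G), S.f ≫ k = 0 →
      res jU jW kU hU ≫ biprod.inl ≫ k = res jV jW kV hV ≫ biprod.inr ≫ k := by
    intro G k hk
    have h0 : biprod.lift (res jU jW kU hU) (-res jV jW kV hV) =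
        res jU jW kU hU ≫ biprod.inl - res jV jW kV hV ≫ biprod.inr := by
      apply biprod.hom_ext <;> simp
    have hk' : biprod.lift (res jU jW kU hU) (-res jV jW kV hV) ≫ k = 0 := hk
    rw [h0, Preadditive.sub_comp, sub_eq_zero, Category.assoc, Category.assoc] at hk'
    exact hk'
  have hg : ∀ {G : EtCoh.Ab X} (φ : EtCoh.const X ℤ ⟶ G),
      biprod.inl ≫ S.g ≫ φ = aug jU ≫ φ ∧ biprod.inr ≫ S.g ≫ φ = aug jV ≫ φ := fun φ => by
    simp [S]
  have hepi : Epi S.g := by
    constructor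
    intro G φ ψ h
    have h0 : S.f ≫ S.g ≫ φ = 0 := by rw [← Category.assoc, S.zero, zero_comp]
    refine (key _ _ (comp_zero _ h0)).unique ⟨(hg φ).1.symm, (hg φ).2.symm⟩ ?_
    rw [h]
    exact ⟨(hg ψ).1.symm, (hg ψ).2.symm⟩
  refine { exact := S.exact_of_g_is_cokernel ?_, mono_f := ?_, epi_g := hepi }
  · refine CokernelCofork.IsColimit.ofπ _ _
      (fun k hk => (key _ _ (comp_zero k hk)).exists.choose) (fun k hk => ?_)
      (fun k hk m hm => ?_)
    · obtain ⟨h₁, h₂⟩ := (key _ _ (comp_zero k hk)).exists.choose_spec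
      apply biprod.hom_ext'
      · exact ((hg _).1).trans h₁
      · exact ((hg _).2).trans h₂
    · refine (key _ _ (comp_zero k hk)).unique ?_ (key _ _ (comp_zero k hk)).exists.choose_spec
      rw [← hm]
      exact ⟨(hg m).1.symm, (hg m).2.symm⟩
  · obtain ⟨P⟩ := EnoughInjectives.presentation (free jW)
    have : Injective P.J := P.injective
    have : Mono (incl jU jW kU hU) :=
      ⟨fun a b _ => (PullSec.subsingleton_hom_mk jW _).elim a b⟩
    obtain ⟨s, hs⟩ := Double.map_surjective_of_injective P.J (incl jU jW kU hU)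
      (ev jW P.J P.f)
    have ha : res jU jW kU hU ≫ (ev jU P.J).symm s = P.f := by
      apply (ev jW P.J).injective
      rw [ev_res, Equiv.apply_symm_apply, hs]
    have hf : S.f ≫ biprod.desc ((ev jU P.J).symm s) 0 = P.f := by
      simp [S, biprod.lift_desc, ha]
    exact mono_of_mono_fac hf

include hcov hint in
/-- The Mayer-Vietoris sequence. -/
theorem exists_delta [PreservesFiniteLimits (EtCoh.pull kU)]
    [PreservesFiniteLimits (EtCoh.pull kV)] [PreservesFiniteLimits (EtCoh.pull jU)]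
    [PreservesFiniteLimits (EtCoh.pull jV)] (F : EtCoh.Ab X) :
    ∃ δ : ∀ n : ℕ, EtCoh.H W ((EtCoh.pull jW).obj F) n →+ EtCoh.H X F (n + 1),
      (AddMonoidHom.prod (EtCore.Hpull jU F 0) (EtCore.Hpull jV F 0)).ker = ⊥ ∧
      (∀ n : ℕ, (AddMonoidHom.prod (EtCore.Hpull jU F (n + 1)) (EtCore.Hpull jV F (n + 1))).ker =
        (δ n).range) ∧
      (∀ n : ℕ, (((EtCore.HpullVia kU jU jW hU F n)).comp (AddMonoidHom.fst _ _) -
          ((EtCore.HpullVia kV jV jW hV F n)).comp (AddMonoidHom.snd _ _)).ker =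
        (AddMonoidHom.prod (EtCore.Hpull jU F n) (EtCore.Hpull jV F n)).range) ∧
      (∀ n : ℕ, (δ n).ker = (((EtCore.HpullVia kU jU jW hU F n)).comp (AddMonoidHom.fst _ _) -
          ((EtCore.HpullVia kV jV jW hV F n)).comp (AddMonoidHom.snd _ _)).range) :=
  MVAlg.exists_delta (res_aug jU jV jW kU kV hU hV) (shortExact jU jV jW kU kV hU hV hcov hint) F
    (fun n => EtCoh.H U ((EtCoh.pull jU).obj F) n) (fun n => EtCoh.H V ((EtCoh.pull jV).obj F) n)
    (fun n => EtCoh.H W ((EtCoh.pull jW).obj F) n) (Φ jU F) (Φ jV F) (Φ jW F)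
    (fun n => EtCore.Hpull jU F n) (fun n => EtCore.Hpull jV F n)
    (fun n => EtCore.HpullVia kU jU jW hU F n) (fun n => EtCore.HpullVia kV jV jW hV F n)
    (fun n e => Hpull_eq jU F n e) (fun n e => Hpull_eq jV F n e)
    (fun n e => HpullVia_eq jU jW kU hU F n e) (fun n e => HpullVia_eq jV jW kV hV F n e)

end Square

end Groth.Agent.Lib.EtJ.MayerVietoris
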