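import Groth.Agent.Lib.EtJ.Supp
import Groth.Agent.Lib.EtSite.Pull

/-!
# Germs of pulled back sections
-/

universe u

open CategoryTheory CategoryTheory.Limits AlgebraicGeometry Opposite

namespace Groth.Agent.Lib.EtJ.PullGerm

variable {X Y : Scheme.{u}} (f : X ⟶ Y) {Ω : Type u} [Field Ω] [IsSepClosed Ω]
  (ξ : Spec (CommRingCat.of Ω) ⟶ X)

theorem sky_unit_π {Z : Scheme.{u}} (η : Spec (CommRingCat.of Ω) ⟶ Z) (G : EtCoh.Ab Z) (V : Z.Etale)
    (p : (Scheme.pointSmallEtale η).fiber.obj V) :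
    ((Scheme.pointSmallEtale η).skyscraperSheafAdjunction.unit.app G).hom.app (op V) ≫
      Pi.π (fun _ : (Scheme.pointSmallEtale η).fiber.obj V => (EtCoh.stalk η).obj G) p =
    Supp.germ G V p := by
  have h : ((Scheme.pointSmallEtale η).skyscraperSheafAdjunction.unit.app G).hom =
      (Scheme.pointSmallEtale η).skyscraperPresheafHomEquiv
        (𝟙 ((Scheme.pointSmallEtale η).presheafFiber.obj G.obj)) := by
    rw [← Adjunction.homEquiv_id]
    exact GrothendieckTopology.Point.skyscraperSheafAdjunction_homEquiv_apply_hom _ _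
  rw [h]
  exact ((Scheme.pointSmallEtale η).skyscraperPresheafHomEquiv_app_π _ V p).trans
    (Category.comp_id _)

/-- The germ of `η(s)` at `ξ` corresponds to the germ of `s` at `ξ ≫ f`. -/
theorem stalkPull_germ (G : EtCoh.Ab Y) (V : Y.Etale)
    (p : (Scheme.pointSmallEtale (ξ ≫ f)).fiber.obj V) :
    ((EtCoh.pullPushAdj f).unit.app G).hom.app (op V) ≫
        Supp.germ ((EtCoh.pull f).obj G) ((EtCoh.bc f).obj V)
          ((EtSite.Pull.fiberBcIso f ξ).inv.app V p) ≫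
        (EtSite.Pull.stalkPull f ξ).hom.app G =
      Supp.germ G V p := by
  have h := Adjunction.unit_leftAdjointUniq_hom_app
    (((EtCoh.pullPushAdj f).comp
      (Scheme.pointSmallEtale ξ).skyscraperSheafAdjunction).ofNatIsoRight
        (EtSite.Pull.skyscraperPushIso f ξ AddCommGrpCat.{u + 1}))
    (Scheme.pointSmallEtale (ξ ≫ f)).skyscraperSheafAdjunction G
  have h' := congrArg (fun m => m.hom.app (op V) ≫
    Pi.π (fun _ : (Scheme.pointSmallEtale (ξ ≫ f)).fiber.obj V => (EtCoh.stalk (ξ ≫ f)).obj G) p) h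
  rw [← sky_unit_π (ξ ≫ f) G V p, ← sky_unit_π ξ ((EtCoh.pull f).obj G) ((EtCoh.bc f).obj V)]
  refine Eq.trans ?_ h'
  have e₁ : ∀ M : AddCommGrpCat.{u + 1},
      ((EtSite.Pull.skyscraperPushIso f ξ AddCommGrpCat.{u + 1}).hom.app M).hom.app (op V) ≫
        Pi.π (fun _ : (Scheme.pointSmallEtale (ξ ≫ f)).fiber.obj V => M) p =
      Pi.π (fun _ : (Scheme.pointSmallEtale ξ).fiber.obj ((EtCoh.bc f).obj V) => M)
        ((EtSite.Pull.fiberBcIso f ξ).inv.app V p) := fun M => Pi.map'_comp_π _ _ p |>.trans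
          (Category.comp_id _)
  have e₂ : ∀ {M N : AddCommGrpCat.{u + 1}} (m : M ⟶ N),
      ((Scheme.pointSmallEtale (ξ ≫ f)).skyscraperSheafFunctor.map m).hom.app (op V) ≫
        Pi.π (fun _ : (Scheme.pointSmallEtale (ξ ≫ f)).fiber.obj V => N) p =
      Pi.π (fun _ : (Scheme.pointSmallEtale (ξ ≫ f)).fiber.obj V => M) p ≫ m := fun m =>
        Pi.map_π (fun _ : (Scheme.pointSmallEtale (ξ ≫ f)).fiber.obj V => m) p
  have aux : ∀ {A B C D E F' K : AddCommGrpCat.{u + 1}} (a : A ⟶ B) (b : B ⟶ C) (c : C ⟶ D)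
      (d : D ⟶ E) (π : E ⟶ F') (π₂ : D ⟶ K) (π' : C ⟶ K) (m : K ⟶ F'), d ≫ π = π₂ ≫ m →
      c ≫ π₂ = π' → a ≫ (b ≫ π') ≫ m = (((a ≫ b) ≫ c) ≫ d) ≫ π := by
    intros A B C D E F' K a b c d π π₂ π' m hd hc
    simp only [Category.assoc, hd, ← hc]
  exact aux _ _ _ _ _ _ _ _ (e₂ _) (e₁ _)

end Groth.Agent.Lib.EtJ.PullGerm
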